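import Cfsg.Agent.H596.DerLen
import Cfsg.Agent.H596.OneFacts

/-!
# The derived length of a Sylow subgroup of a simple group (S4769): interface (helper246)

* `DlLe p d S` : the Sylow `p`-subgroups of `S` have derived length at most `d`;
* `Many p m S` : `S` has `m` irreducible characters of degree divisible by `p`, pairwise not conjugate
  under automorphisms of `S`;
* `Row p S` : `DlLe p m S` and `Many p m S` for some `m`;
* `Row.concl` : `Row p S` implies the conclusion of S4769 for `(S, p)`;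
* `Row.of_im`, `Row.of_two` : derived length at most one (Itô-Michler) and at most two (`TwoOr`);
* `Many.of_degrees`, `Many.of_index`, `Many.of_inner` : criteria.
-/

set_option autoImplicit false

open Cfsg

namespace Cfsg.Agent.H246.Dl

open Cfsg.Agent.Characters.Core

universe u v

section defs

variable (p : ℕ) (d : ℕ) (S : Type u) [Group S]

/-- The Sylow `p`-subgroups of `S` have derived length at most `d`. -/
def DlLe : Prop := ∀ P : Sylow p S, derivedSeries ↥(P : Subgroup S) d = ⊥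

/-- `m` irreducible characters of degree divisible by `p`, pairwise not conjugate under `Aut S`. -/
def Many (m : ℕ) : Prop :=
  ∃ χ : Fin m → IrrCharacter S, (∀ i, p ∣ charDegree (χ i : S → ℂ)) ∧
    ∀ i j, i ≠ j → ∀ σ : S ≃* S, ∃ g, (χ i : S → ℂ) (σ g) ≠ (χ j : S → ℂ) g

/-- The row of S4769. -/
def Row : Prop := ∃ m, DlLe p m S ∧ Many p S m

end defs

variable {p : ℕ} {S : Type u} [Group S]

theorem derivedSeries_eq_bot_mono {G : Type*} [Group G] {a b : ℕ} (h : a ≤ b) (ha : derivedSeries G a = ⊥) :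
    derivedSeries G b = ⊥ := by
  rw [eq_bot_iff, ← ha]
  exact derivedSeries_antitone G h

theorem DlLe.mono {d e : ℕ} (h : DlLe p d S) (hde : d ≤ e) : DlLe p e S :=
  fun P => derivedSeries_eq_bot_mono hde (h P)

theorem Many.mono {m k : ℕ} (h : Many p S m) (hk : k ≤ m) : Many p S k := by
  obtain ⟨χ, h1, h2⟩ := h
  exact ⟨fun i => χ (Fin.castLE hk i), fun i => h1 _, fun i j hij => h2 _ _ (by simpa using hij)⟩

theorem Row.of_le {d m : ℕ} (h : DlLe p d S) (hm : Many p S m) (hdm : d ≤ m) : Row p S :=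
  ⟨m, h.mono hdm, hm⟩

/-- `Many` from a list of inequivalent characters. -/
theorem Many.card_le [Finite S] {m : ℕ} (h : Many p S m) (T : Finset (S → ℂ))
    (hT : ∀ χ : IrrCharacter S, p ∣ charDegree (χ : S → ℂ) → ∃ ψ ∈ T, ∃ σ : S ≃* S, ∀ g : S, (χ : S → ℂ) g = ψ (σ g)) :
    m ≤ T.card := by
  classical
  obtain ⟨χ, h1, h2⟩ := h
  choose ψ hψ σ hσ using fun i => hT (χ i) (h1 i)
  have hinj : Function.Injective ψ := by
    intro i j hij
    by_contra hne
    obtain ⟨g, hg⟩ := h2 i j hne ((σ j).trans (σ i).symm)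
    apply hg
    rw [hσ i, hσ j, hij]
    simp
  have h3 : (Finset.univ.image ψ).card = m := by
    rw [Finset.card_image_of_injective _ hinj, Finset.card_univ, Fintype.card_fin]
  rw [← h3]
  exact Finset.card_le_card (by
    intro x hx
    obtain ⟨i, -, rfl⟩ := Finset.mem_image.1 hx
    exact hψ i)

/-- **The conclusion of S4769.** -/
theorem Row.concl [Finite S] (h : Row p S) (P : Sylow p S) (T : Finset (S → ℂ))
    (hT : ∀ χ : IrrCharacter S, p ∣ charDegree (χ : S → ℂ) → ∃ ψ ∈ T, ∃ σ : S ≃* S, ∀ g : S, (χ : S → ℂ) g = ψ (σ g)) :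
    derivedSeries ↥(P : Subgroup S) T.card = ⊥ := by
  obtain ⟨m, h1, h2⟩ := h
  exact derivedSeries_eq_bot_mono (h2.card_le T hT) (h1 P)

/-- The rows give `FactDl`. -/
theorem factDl (h : ∀ (S : Type u) [Group S] [Finite S] [IsSimpleGroup S], ¬ IsMulCommutative S →
    ∀ p : ℕ, p.Prime → p ∣ Nat.card S → Row p S) : H596.DerLen.FactDl.{u} := by
  intro S _ _ _ hnc p hp hd P T hT
  exact (h S hnc p hp.out hd).concl P T hT

/-! ### transport -/

theorem DlLe.of_equiv {S' : Type v} [Group S'] [Finite S] {d : ℕ} [hp : Fact p.Prime] (e : S ≃* S')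
    (h : DlLe p d S') : DlLe p d S := by
  intro P
  have hQ : derivedSeries ↥((P : Subgroup S).map e.toMonoidHom) d = ⊥ :=
    h (P.mapSurjective (f := e.toMonoidHom) e.surjective)
  let f : ↥(P : Subgroup S) ≃* ↥((P : Subgroup S).map e.toMonoidHom) := e.subgroupMap (P : Subgroup S)
  have h1 : (derivedSeries ↥(P : Subgroup S) d).map f.toMonoidHom ≤
      derivedSeries ↥((P : Subgroup S).map e.toMonoidHom) d :=
    map_derivedSeries_le_derivedSeries f.toMonoidHom d
  rw [hQ, le_bot_iff, Subgroup.map_eq_bot_iff] at h1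
  rw [eq_bot_iff]
  intro x hx
  have h2 := h1 hx
  rw [MonoidHom.mem_ker] at h2
  rw [Subgroup.mem_bot]
  exact f.injective (by rw [map_one]; exact h2)

theorem Many.of_equiv {S' : Type v} [Group S'] {m : ℕ} (e : S ≃* S') (h : Many p S' m) : Many p S m := by
  obtain ⟨χ, h1, h2⟩ := h
  refine ⟨fun i => ⟨(χ i : S' → ℂ) ∘ e, isIrr_comp e.toMonoidHom e.surjective (χ i).2⟩, fun i => ?_, fun i j hij σ => ?_⟩
  · have h3 : charDegree ((χ i : S' → ℂ) ∘ e) = charDegree (χ i : S' → ℂ) := by
      unfold charDegree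
      rw [Function.comp_apply, map_one]
    show p ∣ charDegree ((χ i : S' → ℂ) ∘ e)
    rw [h3]
    exact h1 i
  · obtain ⟨g, hg⟩ := h2 i j hij ((e.symm.trans σ).trans e)
    refine ⟨e.symm g, fun h4 => hg ?_⟩
    change (χ i : S' → ℂ) (e (σ (e.symm g))) = (χ j : S' → ℂ) (e (e.symm g)) at h4
    rw [e.apply_symm_apply] at h4
    exact h4

theorem Row.of_equiv {S' : Type v} [Group S'] [Finite S] [hp : Fact p.Prime] (e : S ≃* S') (h : Row p S') :
    Row p S := by
  obtain ⟨m, h1, h2⟩ := h
  exact ⟨m, h1.of_equiv e, h2.of_equiv e⟩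

/-- `DlLe` through a homomorphism which is injective on a Sylow subgroup. -/
theorem DlLe.of_hom {S' : Type v} [Group S'] {d : ℕ} (f : S →* S')
    (hf : ∀ g : S, f g = 1 → (∃ k, g ^ p ^ k = 1) → g = 1)
    (h : ∀ Q : Subgroup S', IsPGroup p Q → derivedSeries ↥Q d = ⊥) : DlLe p d S := by
  intro P
  have h0 := h ((P : Subgroup S).map f) (P.isPGroup'.map f)
  let g : ↥(P : Subgroup S) →* ↥((P : Subgroup S).map f) := f.subgroupMap (P : Subgroup S)
  have hg : Function.Injective g := by
    rw [injective_iff_map_eq_one]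
    intro x hx
    have h1 : f x = 1 := congrArg Subtype.val hx
    apply Subtype.ext
    obtain ⟨k, hk⟩ := P.isPGroup' x
    exact hf x h1 ⟨k, by simpa using congrArg Subtype.val hk⟩
  have h1 : (derivedSeries ↥(P : Subgroup S) d).map g ≤ derivedSeries ↥((P : Subgroup S).map f) d :=
    map_derivedSeries_le_derivedSeries g d
  rw [h0, le_bot_iff, Subgroup.map_eq_bot_iff] at h1
  rw [eq_bot_iff]
  intro x hx
  have h2 := h1 hx
  rw [MonoidHom.mem_ker] at h2
  rw [Subgroup.mem_bot]
  exact hg (by rw [map_one]; exact h2)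

/-! ### small derived length -/

/-- Derived length at most one: Itô-Michler. -/
theorem Row.of_im (h1 : DlLe p 1 S) (h : H33.IM p S) : Row p S := by
  obtain ⟨χ, hχ⟩ := h
  exact ⟨1, h1, fun _ => χ, fun _ => hχ, fun i j hij => absurd (Subsingleton.elim i j) hij⟩

/-- Derived length at most two. -/
theorem Row.of_twoStrict (h1 : DlLe p 2 S) (h : H596.OneFacts.Two p S) : Row p S := by
  obtain ⟨α, β, ha, hb, hσ⟩ := h
  refine ⟨2, h1, ![α, β], ?_, ?_⟩
  · intro i
    fin_cases i
    · exact ha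
    · exact hb
  · intro i j hij σ
    fin_cases i <;> fin_cases j
    · exact absurd rfl hij
    · exact hσ σ
    · obtain ⟨s, hs⟩ := hσ σ.symm
      refine ⟨σ.symm s, fun h2 => hs ?_⟩
      change (β : S → ℂ) (σ (σ.symm s)) = (α : S → ℂ) (σ.symm s) at h2
      rw [σ.apply_symm_apply] at h2
      exact h2.symm
    · exact absurd rfl hij

/-! ### criteria for `Many` -/

/-- Inequivalence from an invariant. -/
theorem Many.of_inv {m : ℕ} {β : Type*} (χ : Fin m → IrrCharacter S) (hχ : ∀ i, p ∣ charDegree (χ i : S → ℂ))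
    (f : (S → ℂ) → β) (hf : ∀ (ψ : S → ℂ) (σ : S ≃* S), f (ψ ∘ σ) = f ψ)
    (hinj : Function.Injective fun i => f (χ i : S → ℂ)) : Many p S m := by
  refine ⟨χ, hχ, fun i j hij σ => ?_⟩
  by_contra hcon
  push Not at hcon
  apply hij
  apply hinj
  have h1 : ((χ i : S → ℂ) ∘ σ) = (χ j : S → ℂ) := funext hcon
  have h2 := hf (χ i : S → ℂ) σ
  rw [h1] at h2
  exact h2.symm

/-- `m` different degrees divisible by `p`. -/
theorem Many.of_degrees {m : ℕ} (χ : Fin m → IrrCharacter S) (hχ : ∀ i, p ∣ charDegree (χ i : S → ℂ))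
    (hinj : Function.Injective fun i => charDegree (χ i : S → ℂ)) : Many p S m := by
  refine Many.of_inv χ hχ charDegree (fun ψ σ => ?_) hinj
  unfold charDegree
  rw [Function.comp_apply, map_one]

/-- A set of `m` different degrees divisible by `p`. -/
theorem Many.of_finset {D : Finset ℕ} (h : ∀ d ∈ D, p ∣ d ∧ ∃ χ : S → ℂ, IsIrrCharacter S χ ∧ χ 1 = d) :
    Many p S D.card := by
  classical
  let e := D.equivFin
  choose! hd χ hχ h1 using h
  have hdeg : ∀ i, charDegree (χ (e.symm i)) = (e.symm i : ℕ) := fun i =>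
    H670.PSing.charDegree_eq_of (h1 _ (e.symm i).2)
  refine Many.of_degrees (fun i => ⟨χ (e.symm i), hχ _ (e.symm i).2⟩) (fun i => ?_) ?_
  · show p ∣ charDegree (χ (e.symm i))
    rw [hdeg]
    exact hd _ (e.symm i).2
  · intro i j hij
    have h2 : (e.symm i : ℕ) = (e.symm j : ℕ) := by
      rw [← hdeg i, ← hdeg j]
      exact hij
    exact e.symm.injective (Subtype.ext h2)

end Cfsg.Agent.H246.Dl
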