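import Cfsg.Agent.H759.Dl.Small
import Cfsg.Agent.H941.Dl.Fields
import Cfsg.Agent.H152.Dl.Fields
import Cfsg.Agent.H64.Dl.ESix
import Cfsg.Agent.H195.Dl.F4Two
import Cfsg.Agent.H195.Dl.Tits
import Cfsg.Agent.H195.Dl.TwF
import Cfsg.Agent.H352.Dl.Alt
import Cfsg.Agent.H567.Dl.Mathieu
import Cfsg.Agent.H70.Dl.Janko
import Cfsg.Agent.H70.Dl.JTwo
import Cfsg.Agent.H70.Dl.HS
import Cfsg.Agent.H70.Dl.McL
import Cfsg.Agent.H70.Dl.Suz
import Cfsg.Agent.H669.Dl.HN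
import Cfsg.Agent.H669.Dl.J4Full
import Cfsg.Agent.H669.Dl.Th
import Cfsg.Agent.H868.Dl.He
import Cfsg.Agent.H868.Dl.Ly
import Cfsg.Agent.H868.Dl.ON
import Cfsg.Agent.H868.Dl.Ru
import Cfsg.Agent.H633.Dl.Co1
import Cfsg.Agent.H633.Dl.Co2
import Cfsg.Agent.H633.Dl.Co3
import Cfsg.Agent.H153.Dl.RowFi22
import Cfsg.Agent.H153.Dl.RowFi23
import Cfsg.Agent.H153.Dl.RowFi24
import Cfsg.Agent.H810.Dl.RowM
import Cfsg.Agent.H810.Dl.RowB

/-!
# The derived length of a Sylow subgroup of a simple group (S4769, S4767): all the rows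

The rows were proved by helper152, 941, 64, 195, 352, 567, 70, 669, 868, 633, 153, 810 (and 71, 158, 628, 321, 279, 362,
519, 674, 755, 454, 680, 211, 705 for the tools), the frame `Missing` by helper759.
-/

set_option autoImplicit false

open Cfsg

namespace Cfsg.Agent.H246.Dl.Fact

open Cfsg.Agent.H246.Dl Cfsg.Agent.H596.OneFacts Cfsg.Agent.H759.Dl

universe u

theorem missingSpor (T : FactTwo.{u}) (I : H671.H5.FactIM.{u}) : MissingSpor.{u} where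
  m11 := fun _ _ _ _ h _ hp hd => H567.Dl.row_m11 h hp hd
  m12 := fun _ _ _ _ h _ hp hd => H567.Dl.row_m12 h hp hd
  m22 := fun _ _ _ _ h _ hp hd => H567.Dl.row_m22 h hp hd
  m23 := fun _ _ _ _ h _ hp hd => H567.Dl.row_m23 h hp hd
  m24 := fun _ _ _ _ h _ hp hd => H567.Dl.row_m24 h hp hd
  j1 := H70.Dl.Janko.row_j1 T I
  j2 := H70.Dl.JTwo.row_j2 T I
  j3 := H70.Dl.Janko.row_j3 T I
  j4 := fun S _ _ _ h _ hp hd => H669.Dl.J4.row_j4_full S h hp hd
  co1 := H633.Dl.Co1.row_co1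
  co2 := H633.Dl.Co2.row_co2
  co3 := H633.Dl.Co3.row_co3
  mcl := H70.Dl.McL.row_mcl T I
  hs := H70.Dl.HS.row_hs T I
  suz := H70.Dl.Suz.row_suz T I
  he := H868.Dl.row_he T I
  ru := H868.Dl.row_ru T I
  on := H868.Dl.row_on T I
  ly := H868.Dl.row_ly T I
  fi22 := fun _ _ _ _ h _ hp hd => H153.Dl.row_fi22 h hp hd
  fi23 := fun _ _ _ _ h _ hp hd => H153.Dl.row_fi23 h hp hd
  fi24 := fun _ _ _ _ h _ hp hd => H153.Dl.row_fi24 h hp hd
  hn := fun S _ _ _ h _ hp hd => H669.Dl.HN.row_hn S h hp hd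
  th := fun S _ _ _ h _ hp hd => H669.Dl.Th.row_th S h hp hd
  b := H810.Dl.row_B I
  m := H810.Dl.row_M T I

theorem row_f4_two : H941.Dl.Fields.RowFFourTwo.{u} := by
  intro S _ _ _ K _ _ hK e
  obtain ⟨e⟩ := e
  exact H195.Dl.F4Two.row_two (by rw [Nat.card_eq_fintype_card, hK]) e

theorem row_e6_three : H941.Dl.Fields.RowESixThree.{u} := by
  intro S _ _ _ K _ _ hK e
  obtain ⟨e⟩ := e
  have h1 : 3 ∣ Fintype.card K ^ 2 - 1 := by
    have h2 : Fintype.card K ^ 2 - 1 = (Fintype.card K + 1) * (Fintype.card K - 1) := by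
      have := Nat.sq_sub_sq (Fintype.card K) 1
      rwa [one_pow] at this
    rw [h2]
    exact hK.mul_right _
  have h3 : ¬ 3 ∣ Fintype.card K := by omega
  exact Row.of_le ((H158.DlRows.dl_E6 e Nat.prime_three h3).2.1 rfl)
    (H64.Dl.many_E6_cross Nat.prime_three h1 e) le_rfl

theorem missing (T : FactTwo.{u}) (I : H671.H5.FactIM.{u}) : Missing.{u} where
  alt := fun _ _ _ _ h _ hp hd => H352.Dl.row_alt' h hp hd
  l2 := H152.Dl.f_l2 T I
  ln := H152.Dl.f_ln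
  psp := H152.Dl.f_psp T I
  psu := H152.Dl.f_psu T I
  odd := H152.Dl.f_odd T I
  plus := H152.Dl.f_plus T I
  minus := H152.Dl.f_minus T I
  g2 := H941.Dl.Fields.f_g2 T I
  f4 := H941.Dl.Fields.f_f4 T I row_f4_two
  e6 := H941.Dl.Fields.f_e6 T I row_e6_three
  e7 := H941.Dl.Fields.f_e7 T I
  e8 := H941.Dl.Fields.f_e8 T I
  te6 := H941.Dl.Fields.f_te6 T I
  td4 := H941.Dl.Fields.f_td4 T I
  sz := H152.Dl.f_sz T I
  ree := H152.Dl.f_ree T I
  tf4 := H941.Dl.Fields.f_tf4 T I fun _ _ _ _ h => H195.Dl.TwF.row_two h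
  tits := H195.Dl.Tits.row_tits T I
  spor := spor_of (missingSpor T I)

/-- **`FactDl` from `FactTwo` and the Itô-Michler fact.** -/
theorem factDl_of (T : FactTwo.{u}) (I : H671.H5.FactIM.{u})
    (hK : ∀ (X : Type u) [Group X] [Finite X] [IsSimpleGroup X], IsKnownSimple' X) : H596.DerLen.FactDl.{u} :=
  factDl_of_missing (missing T I) hK

end Cfsg.Agent.H246.Dl.Fact
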