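import Cfsg.Agent.S0000
import Cfsg.Agent.H33.IMRest
import Cfsg.Agent.H53.Two.FactTwo
import Cfsg.Agent.H246.Dl.Fact

/-!
# `FactDl` and the Itô-Michler fact for all finite simple groups, unconditionally

This module imports the classification `S0000`.
-/

set_option autoImplicit false

open Cfsg

namespace Cfsg.Agent.H246.Dl.FactAll

universe u

theorem factIM : H671.H5.FactIM.{u} := H33.imFact.{u} fun _ _ _ _ => S0000.result

theorem factDl : H596.DerLen.FactDl.{u} :=
  H246.Dl.Fact.factDl_of H53.Two.factTwo factIM fun _ _ _ _ => S0000.result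

end Cfsg.Agent.H246.Dl.FactAll
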