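import Cfsg.Agent.H246.Dl.KFix
import Cfsg.Agent.H246.Dl.Defs
import Cfsg.Agent.H53.HC.Prod
import Cfsg.Agent.H40.GGFpf
import Cfsg.Agent.BpExc.TorRgd

/-!
# Harish-Chandra types (helper246, task (K) of tools/plans/S4769.md)

`R` a root group datum with `GG = ⊤`. `HT χ K` : the irreducible character `χ` has Harish-Chandra type `K` (a set of
nodes): `χ` has `V_K`-fixed vectors, and if `χ` has `V_J`-fixed vectors then some `w` maps the simple roots of `K` into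
those of `J`.

* `exists_HT` : a cuspidal character of `M_K` exists ⟹ some `χ` has type `K`;
* `HT.not_aut` : characters of types with different `|P_K|` or different `|K|` are not conjugate under automorphisms;
* `HT.dvd_degree` : `Q ≤ T` a `p`-group, `C_U(Q) = 1`, `K ≠ ∅` ⟹ `p ∣ χ(1)`;
* `many_of_cusps` : the combination.
-/

set_option autoImplicit false

open scoped ComplexConjugate
open Cfsg

namespace Cfsg.Agent.H246.Dl

open Cfsg.Agent.OddOrderCharacters.Clifford Cfsg.Agent.Characters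
open CoxeterSystem Cfsg.Agent.ChevalleyStructure.CoxeterGeom Cfsg.Agent.Tits.Roots Cfsg.Agent.Tits.Core
  Cfsg.Agent.Tits.Exchange Cfsg.Agent.Nodes.Reps Cfsg.Agent.Nodes.BNOf Cfsg.Agent.Nodes.StabComb
  Cfsg.Agent.Nodes.Bruhat Cfsg.Agent.Nodes.OppDec Cfsg.Agent.Nodes.LeviDec Cfsg.Agent.H53.HC
  Cfsg.Agent.KFacts.RgdAut
open scoped Pointwise

variable {I W Y : Type*} [Fintype I] [DecidableEq I] [Group W] [Group Y] {M : CoxeterMatrix I}
  {cs : CoxeterSystem M W} {A : I → I → ℤ} {h : IsCartan M A} {r : ℕ} {T : Subgroup Y} {n : I → Y}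
  {X : (I → ℤ) → Subgroup Y}

/-- **Harish-Chandra type.** -/
structure HT (cs : CoxeterSystem M W) (h : IsCartan M A) (X : (I → ℤ) → Subgroup Y) (χ : Y → ℂ) (K : Set I) :
    Prop where
  irr : IsIrrCharacter Y χ
  fix : HasFix χ (VJ cs h X K)
  le : ∀ J : Set I, HasFix χ (VJ cs h X J) → ∃ w : W, ∀ i ∈ K, ∃ k ∈ J, rep cs h w (sr i) = sr k

/-! ### combinatorics -/

/-- If `w⁻¹` maps `K`, and `w` maps `J`, to positive roots then either `w⁻¹` maps the simple roots of `K` into those of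
`J`, or some `rad K i` is mapped into `V_J`. -/
theorem maps_or {K J : Set I} {w : W} (h1 : ∀ i ∈ K, 0 ≤ rep cs h w⁻¹ (sr i)) (h2 : ∀ j ∈ J, 0 ≤ rep cs h w (sr j)) :
    (∀ i ∈ K, ∃ k ∈ J, rep cs h w⁻¹ (sr i) = sr k) ∨
      ∃ i ∈ K, ∀ x ∈ PosRad cs h K i, rep cs h w⁻¹ x ∈ NotJ cs h J := by
  by_cases hc : ∀ i ∈ K, ∀ k, k ∉ J → rep cs h w⁻¹ (sr i) k = 0
  · left
    intro i hi
    have h3 := ht_le_rep h2 (h1 i hi) (hc i hi)
    rw [rep_apply_inv] at h3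
    have h4 : ht (sr i : I → ℤ) = 1 := by
      unfold ht sr
      simp
    rw [h4] at h3
    obtain ⟨k, hk, hk0⟩ := eq_sr_of_ht ((isRoot_sr cs h i).act w⁻¹) (h1 i hi) h3
    refine ⟨k, ?_, hk⟩
    by_contra hkJ
    rw [hc i hi k hkJ] at hk0
    exact lt_irrefl _ hk0
  · right
    push Not at hc
    obtain ⟨i, hi, k, hk, hne⟩ := hc
    have hpos : 0 < rep cs h w⁻¹ (sr i) k := lt_of_le_of_ne (h1 i hi k) (Ne.symm hne)
    refine ⟨i, hi, ?_⟩
    rintro x ⟨hx, hxi⟩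
    refine ⟨hx.1.act _, rep_nonneg_of_supp h1 hx.2.1 hx.2.2, k, hk, ?_⟩
    exact lt_of_lt_of_le (mul_pos hxi hpos) (rep_apply_ge h1 hx.2.1 hx.2.2 i k)

theorem PJ_mono {J J' : Set I} (hJ : J ⊆ J') : PJ cs h T X J ≤ PJ cs h T X J' := by
  refine sup_le (le_trans (LJ_mono hJ) LJ_le_PJ) (le_trans (le_trans (VJ_le_B (T := T) J) B_le_PJ) le_rfl)

variable (R : RGD cs h r T n X)

include R

/-- Double coset representatives for two parabolic subgroups. -/
theorem exists_min_rep₂ [Finite W] (hG : GG cs h T X = ⊤) (K J : Set I) (x : Y) :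
    ∃ a ∈ PJ cs h T X K, ∃ b ∈ PJ cs h T X J, ∃ w g, Rp cs R.nsys w g ∧ x = a * g * b ∧
      (∀ i ∈ K, 0 ≤ rep cs h w⁻¹ (sr i)) ∧ ∀ i ∈ J, 0 ≤ rep cs h w (sr i) := by
  classical
  have hex : ∃ m : ℕ, ∃ w, cs.length w = m ∧ ∃ a ∈ PJ cs h T X K, ∃ b ∈ PJ cs h T X J, ∃ g,
      Rp cs R.nsys w g ∧ x = a * g * b := by
    obtain ⟨w, b₁, hb₁, k, hk, b₂, hb₂, e⟩ := (mem_GG R).1 (show x ∈ GG cs h T X by rw [hG]; exact Subgroup.mem_top x)
    exact ⟨_, w, rfl, b₁, B_le_PJ hb₁, b₂, B_le_PJ hb₂, k, hk, e⟩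
  obtain ⟨w, hw, a, ha, b, hb, g, hg, e⟩ := Nat.find_spec hex
  have hmin := fun m hm => Nat.find_min hex (m := m) hm
  have hmin' : ∀ v, (∃ a ∈ PJ cs h T X K, ∃ b ∈ PJ cs h T X J, ∃ g, Rp cs R.nsys v g ∧ x = a * g * b) →
      cs.length w ≤ cs.length v := by
    intro v hv
    rw [hw]
    by_contra hcon
    exact hmin _ (not_le.1 hcon) ⟨v, rfl, hv⟩
  refine ⟨a, ha, b, hb, w, g, hg, e, ?_, ?_⟩
  · intro i hi
    refine nonneg_of_lt cs h w⁻¹ i ?_
    rw [cs.length_inv, ← cs.length_inv (w⁻¹ * cs.simple i), mul_inv_rev, inv_inv, cs.inv_simple]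
    have h1 := hmin' (cs.simple i * w) ⟨a * (n i)⁻¹, mul_mem ha (inv_mem (LJ_le_PJ (n_mem_LJ R hi))), b, hb,
      n i * g, (rp_simple cs R.nsys i).mul hg, by rw [e]; group⟩
    have h2 := cs.length_simple_mul w i
    omega
  · intro i hi
    refine nonneg_of_lt cs h w i ?_
    have h1 := hmin' (w * cs.simple i) ⟨a, ha, (n i)⁻¹ * b, mul_mem (inv_mem (LJ_le_PJ (n_mem_LJ R hi))) hb,
      g * n i, hg.mul (rp_simple cs R.nsys i), by rw [e]; group⟩
    have h2 := cs.length_mul_simple w i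
    omega

/-! ### existence -/

/-- The cuspidal characters of `P_K` over a cuspidal character of `M_K`. -/
theorem exists_psi [Finite W] [Finite Y] (K : Set I) {θ : ↥(MJ cs h X K) → ℂ} (hθ : IsIrrCharacter _ θ)
    (hc : ∀ i ∈ K, ∀ [Fintype (rad cs h X K i)], ∑ u : rad cs h X K i, θ ⟨u, rad_le_MJ K i u.2⟩ = 0) :
    ∃ ψ : ↥(PJ cs h T X K) → ℂ, IsIrrCharacter _ ψ ∧ (∃ k : ℕ, 0 < k ∧ ψ 1 = k * θ 1) ∧
      (∀ (v : Y) (hv : v ∈ VJ cs h X K), ψ ⟨v, VJ_le_PJ hv⟩ = ψ 1) ∧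
      ∀ i ∈ K, ∀ [Fintype (rad cs h X K i)], ∑ u : rad cs h X K i, ψ ⟨u, rad_le_PJ K i u.2⟩ = 0 := by
  classical
  obtain ⟨ψ, hψ, ⟨k, hk, hk1⟩, c, s, hres, hsφ⟩ := exists_over (MJ_le_LJ (T := T) K) (LJ_le_normalizer_MJ R K) hθ
  obtain ⟨ψ', hψ', hψL, hψV⟩ := exists_infl R K hψ
  have hres' : ∀ (m : Y) (hm : m ∈ MJ cs h X K), ψ' ⟨m, LJ_le_PJ (MJ_le_LJ K hm)⟩ = c * ∑ φ ∈ s, φ ⟨m, hm⟩ := by
    intro m hm
    rw [hψL]
    exact hres ⟨m, hm⟩
  -- the conjugates are conjugates under the torus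
  have hsT : ∀ φ ∈ s, ∃ t, ∃ ht : t ∈ T, φ = θ ∘ conjME (MJ cs h X K) (T_le_normalizer_MJ R K ht) := by
    intro φ hφ
    obtain ⟨g, hg, hgφ⟩ := hsφ φ hφ
    obtain ⟨m, hm, t, ht, rfl⟩ := (mem_LJ_iff_mul' R K).1 hg
    refine ⟨t, ht, ?_⟩
    funext x
    obtain ⟨hx', e⟩ := hgφ x x.2
    rw [e, Function.comp_apply]
    have h1 := Core.isIrr_isClassFunction hθ (conjME (MJ cs h X K) (T_le_normalizer_MJ R K ht) x) ⟨m, hm⟩
    rw [← h1]
    congr 1
    apply Subtype.ext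
    simp only [conjME_coe, Subgroup.coe_mul, InvMemClass.coe_inv]
    group
  refine ⟨ψ', hψ', ⟨k, hk, ?_⟩, hψV, ?_⟩
  · rw [← hk1]
    exact hψL 1 (one_mem _)
  · intro i hi hf
    have h1 : ∀ u : rad cs h X K i, ψ' ⟨u, rad_le_PJ K i u.2⟩ = c * ∑ φ ∈ s, φ ⟨u, rad_le_MJ K i u.2⟩ :=
      fun u => hres' u (rad_le_MJ K i u.2)
    rw [Finset.sum_congr rfl fun u _ => h1 u, ← Finset.mul_sum, Finset.sum_comm]
    rw [Finset.sum_eq_zero, mul_zero]
    intro φ hφ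
    obtain ⟨t, ht, rfl⟩ := hsT φ hφ
    rw [← hc i hi]
    exact Fintype.sum_equiv (conjME (rad cs h X K i) (T_le_normalizer_rad R K i ht)).toEquiv _ _ fun u => rfl

/-- **Every irreducible character above a cuspidal character of `P_K` has type `K`.** -/
theorem HT.of_psi [Finite W] [Finite Y] (hG : GG cs h T X = ⊤) (K : Set I) {ψ : ↥(PJ cs h T X K) → ℂ}
    [Fintype ↥(PJ cs h T X K)] (hψ : IsIrrCharacter _ ψ)
    (hV : ∀ (v : Y) (hv : v ∈ VJ cs h X K), ψ ⟨v, VJ_le_PJ hv⟩ = ψ 1)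
    (hc : ∀ i ∈ K, ∀ [Fintype (rad cs h X K i)], ∑ u : rad cs h X K i, ψ ⟨u, rad_le_PJ K i u.2⟩ = 0)
    {χ : Y → ℂ} (hχ : IsIrrCharacter Y χ) (hne : classInner ψ (fun t : PJ cs h T X K => χ t) ≠ 0) :
    HT cs h X χ K := by
  classical
  have : Fintype Y := Fintype.ofFinite Y
  have hχc := Core.isIrr_isCharacter hχ
  refine ⟨hχ, ?_, ?_⟩
  · have : Fintype (VJ cs h X K) := Fintype.ofFinite _
    refine hasFix_of_constituent VJ_le_PJ hχc hψ hne ?_
    rw [Finset.sum_congr rfl fun (v : VJ cs h X K) _ => hV v v.2, Finset.sum_const, nsmul_eq_mul]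
    refine mul_ne_zero ?_ (Core.isIrr_apply_one_ne_zero hψ)
    exact_mod_cast Finset.card_ne_zero.2 ⟨1, Finset.mem_univ _⟩
  · intro J hJ
    have : Fintype (PJ cs h T X J) := Fintype.ofFinite _
    obtain ⟨β, hβ, hβne, hβV⟩ := exists_const (VJ_le_PJ (T := T)) (PJ_le_normalizer_VJ R J) hχc hJ
    have hψc := Core.isIrr_isCharacter hψ
    have hβc := Core.isIrr_isCharacter hβ
    obtain ⟨x, hx⟩ := exists_tw (PJ cs h T X K) (PJ cs h T X J) hψc hβc hχ hne hβne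
    obtain ⟨a, ha, b, hb, w, g, hg, e, h1, h2⟩ := exists_min_rep₂ R hG K J x
    rw [e, tw_mul _ _ (Core.isIrr_isClassFunction hψ) (Core.isIrr_isClassFunction hβ) ha hb] at hx
    rcases maps_or h1 h2 with hp | ⟨i, hi, hrad⟩
    · exact ⟨w⁻¹, hp⟩
    · exfalso
      apply hx
      have hconj : ∀ l ∈ rad cs h X K i, g⁻¹ * l * g ∈ VJ cs h X J := fun l hl =>
        conj_mem_Sup' R hg (fun x hx => hx.1.1) hrad hl
      have : Fintype (rad cs h X K i) := Fintype.ofFinite _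
      refine tw_eq_zero_of_sub _ _ hψc hβc g (rad cs h X K i) (rad_le_PJ K i) (fun l hl => VJ_le_PJ (hconj l hl)) ?_
      have h3 : ∀ l : rad cs h X K i, ψ ⟨l, rad_le_PJ K i l.2⟩ *
          conj (β ⟨g⁻¹ * l * g, VJ_le_PJ (hconj l l.2)⟩) = ψ ⟨l, rad_le_PJ K i l.2⟩ * conj (β 1) := by
        intro l
        rw [hβV _ (hconj l l.2)]
      rw [Finset.sum_congr rfl fun l _ => h3 l, ← Finset.sum_mul, hc i hi, zero_mul]

/-- **(K1)** a cuspidal character of `M_K` gives a character of type `K`. -/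
theorem exists_HT [Finite W] [Finite Y] (hG : GG cs h T X = ⊤) (K : Set I) {θ : ↥(MJ cs h X K) → ℂ}
    (hθ : IsIrrCharacter _ θ)
    (hc : ∀ i ∈ K, ∀ [Fintype (rad cs h X K i)], ∑ u : rad cs h X K i, θ ⟨u, rad_le_MJ K i u.2⟩ = 0) :
    ∃ χ : Y → ℂ, HT cs h X χ K := by
  classical
  have : Fintype Y := Fintype.ofFinite Y
  have : Fintype (PJ cs h T X K) := Fintype.ofFinite _
  obtain ⟨ψ, hψ, -, hV, hc'⟩ := exists_psi (T := T) R K hθ hc
  obtain ⟨χ, hχ, hne⟩ := Cfsg.Agent.CharDeep.PowerDegrees.exists_irr_over (PJ cs h T X K) hψ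
  exact ⟨χ, HT.of_psi R hG K hψ hV hc' hχ (classInner_symm_ne hne)⟩

/-! ### parabolic subgroups and automorphisms -/

/-- `V_J` is the largest subgroup of `U` normal in `P_J`. -/
theorem mem_VJ_iff [Finite W] (J : Set I) {v : Y} : v ∈ VJ cs h X J ↔
    v ∈ RGD.Sup X (RGD.Pos cs h) ∧ ∀ k ∈ PJ cs h T X J, k * v * k⁻¹ ∈ RGD.Sup X (RGD.Pos cs h) := by
  constructor
  · intro hv
    refine ⟨VJ_le_U J hv, fun k hk => VJ_le_U J ?_⟩
    exact (Subgroup.mem_normalizer_iff.1 (PJ_le_normalizer_VJ R J hk) v).1 hv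
  · rintro ⟨hU, hk⟩
    obtain ⟨u, hu, v', hv', rfl⟩ := (mem_U_iff R (J := J)).1 hU
    obtain ⟨wj, hwj⟩ := exists_isLongest cs J
    obtain ⟨kJ, hkJ⟩ := exists_rp cs R.nsys wj
    have hkP : kJ ∈ PJ cs h T X J := LJ_le_PJ (rp_mem_LJ R hwj.1 hkJ)
    have h1 : kJ * v' * kJ⁻¹ ∈ RGD.Sup X (RGD.Pos cs h) :=
      VJ_le_U J ((Subgroup.mem_normalizer_iff.1 (PJ_le_normalizer_VJ R J hkP) v').1 hv')
    have h2 : kJ * u * kJ⁻¹ ∈ RGD.Sup X (RGD.Pos cs h) := by
      have e : kJ * u * kJ⁻¹ = (kJ * (u * v') * kJ⁻¹) * (kJ * v' * kJ⁻¹)⁻¹ := by group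
      rw [e]
      exact mul_mem (hk kJ hkP) (inv_mem h1)
    have h3 : kJ * u * kJ⁻¹ ∈ UN cs h X := by
      refine conj_mem_Sup R hkJ (S := PosJ cs h J) (fun x hx => hx.1) (fun x hx => ?_) hu
      exact ⟨hx.1.act _, rep_longest_nonpos hwj hx⟩
    have h4 := eq_one_of_mem_UN_of_mem_B R h3 (RGD.U_le_B (T := T) h2)
    have h5 : u = 1 := by
      have : u = kJ⁻¹ * (kJ * u * kJ⁻¹) * kJ := by group
      rw [this, h4]; group
    rw [h5, one_mul]
    exact hv'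

/-- an automorphism fixing `B` maps parabolic subgroups to parabolic subgroups -/
theorem map_PJ [Finite W] (hG : GG cs h T X = ⊤) {α : MulAut Y} (hB : Fix α (RGD.B cs h T X)) (J : Set I) :
    (PJ cs h T X J).map α.toMonoidHom = PJ cs h T X {i | n i ∈ (PJ cs h T X J).map α.toMonoidHom} := by
  have h1 : RGD.B cs h T X ≤ (PJ cs h T X J).map α.toMonoidHom := by
    intro b hb
    refine ⟨α⁻¹ b, B_le_PJ ((hB.inv b).2 hb), ?_⟩
    exact MulAut.apply_inv_self _ _ _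
  rw [← inf_eq_PJ R h1, hG, inf_top_eq]

theorem map_VJ [Finite W] {α : MulAut Y} (hU : Fix α (RGD.Sup X (RGD.Pos cs h))) {J J' : Set I}
    (hP : (PJ cs h T X J).map α.toMonoidHom = PJ cs h T X J') :
    (VJ cs h X J).map α.toMonoidHom = VJ cs h X J' := by
  ext v
  constructor
  · rintro ⟨u, hu, rfl⟩
    obtain ⟨h1, h2⟩ := (mem_VJ_iff (T := T) R J).1 hu
    refine (mem_VJ_iff (T := T) R J').2 ⟨(hU u).2 h1, fun k hk => ?_⟩
    rw [← hP] at hk
    obtain ⟨k, hk, rfl⟩ := hk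
    have h3 := (hU _).2 (h2 k hk)
    rwa [map_mul, map_mul, map_inv] at h3
  · intro hv
    obtain ⟨h1, h2⟩ := (mem_VJ_iff (T := T) R J').1 hv
    have e : α (α⁻¹ v) = v := MulAut.apply_inv_self _ _ _
    refine ⟨α⁻¹ v, (mem_VJ_iff (T := T) R J).2 ⟨(hU.inv v).2 h1, fun k hk => ?_⟩, e⟩
    have h3 : α k ∈ PJ cs h T X J' := by
      rw [← hP]
      exact ⟨k, hk, rfl⟩
    rw [← hU, map_mul, map_mul, map_inv, e]
    exact h2 _ h3

theorem n_mem_PJ_iff [Finite W] (J : Set I) (i : I) : n i ∈ PJ cs h T X J ↔ i ∈ J := by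
  have h1 : Cell R.nsys cs h X (cs.simple i) (n i) := cell_of_rp (rp_simple cs R.nsys i)
  rw [cell_mem_PJ_iff R h1]
  constructor
  · intro h2
    by_contra hi
    have h3 : sr i ∈ NotJ cs h J := ⟨isRoot_sr cs h i, sr_nonneg i, i, hi, by simp [sr]⟩
    have h4 := (NotJ.act h2 h3).2.1 i
    rw [rep_simple_sr] at h4
    simp [sr] at h4
  · exact fun h2 => simple_mem_WJ cs h2

/-- Sylow's theorem: an automorphism fixes `U` after an inner automorphism. -/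
theorem exists_fixU [Finite W] [Finite Y] [Fact r.Prime] (hG : GG cs h T X = ⊤) (σ : MulAut Y) :
    ∃ g : Y, Fix (MulAut.conj g * σ) (RGD.Sup X (RGD.Pos cs h)) := by
  obtain ⟨P, hP⟩ := Cfsg.Agent.BpExc.TorRgd.exists_sylow_eq R hG
  obtain ⟨g, hg⟩ := MulAction.exists_smul_eq Y (σ • P) P
  refine ⟨g, ?_⟩
  rw [← hP, ← Cfsg.Agent.BpExc.TorRgd.aut_smul_eq_iff, mul_smul]
  exact hg

/-! ### orders -/

omit R in
theorem card_of_mul {G : Type*} [Group G] [Finite G] {P A C : Subgroup G} (hA : A ≤ P) (hC : C ≤ P)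
    (h : ∀ g ∈ P, ∃ a ∈ A, ∃ c ∈ C, g = a * c) (hd : ∀ x, x ∈ A → x ∈ C → x = 1) :
    Nat.card P = Nat.card A * Nat.card C := by
  rw [← Nat.card_prod]
  refine (Nat.card_congr (Equiv.ofBijective (fun x : A × C => (⟨x.1 * x.2, mul_mem (hA x.1.2) (hC x.2.2)⟩ : P)) ?_)).symm
  constructor
  · rintro ⟨a, c⟩ ⟨a', c'⟩ e
    have e1 : (a : G) * c = a' * c' := congrArg Subtype.val e
    have e2 : (a' : G)⁻¹ * a = c' * (c : G)⁻¹ := by
      rw [inv_mul_eq_iff_eq_mul, ← mul_assoc, ← e1, mul_inv_cancel_right]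
    have e3 := hd ((a' : G)⁻¹ * a) (mul_mem (inv_mem a'.2) a.2) (by rw [e2]; exact mul_mem c'.2 (inv_mem c.2))
    have e4 : (a : G) = a' := (inv_mul_eq_one.1 e3).symm
    have e5 : (c : G) = c' := by
      rw [e3] at e2
      exact (mul_inv_eq_one.1 e2.symm).symm
    rw [Prod.mk.injEq]
    exact ⟨Subtype.ext e4, Subtype.ext e5⟩
  · rintro ⟨g, hg⟩
    obtain ⟨a, ha, c, hc, rfl⟩ := h g hg
    exact ⟨(⟨a, ha⟩, ⟨c, hc⟩), rfl⟩

theorem card_PJ [Finite W] [Finite Y] (J : Set I) :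
    Nat.card (PJ cs h T X J) = Nat.card (LJ cs h T X J) * Nat.card (VJ cs h X J) :=
  card_of_mul LJ_le_PJ VJ_le_PJ (fun _ hg => (mem_PJ R).1 hg) fun _ h1 h2 => eq_one_of_mem_LJ_of_mem_VJ R h1 h2

theorem card_U [Finite W] [Finite Y] (J : Set I) :
    Nat.card (RGD.Sup X (RGD.Pos cs h)) = Nat.card (UJ cs h X J) * Nat.card (VJ cs h X J) :=
  card_of_mul (UJ_le_U J) (VJ_le_U J) (fun _ hg => (mem_U_iff R).1 hg) fun _ h1 h2 =>
    eq_one_of_mem_LJ_of_mem_VJ (T := T) R (BJ_le_LJ (UJ_le_BJ h1)) h2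

omit R in
theorem rep_supp {K K' : Set I} {w : W} (hw : ∀ i ∈ K, ∃ k ∈ K', rep cs h w (sr i) = sr k) {x : I → ℤ}
    (hx : ∀ k, k ∉ K → x k = 0) (k : I) (hk : k ∉ K') : rep cs h w x k = 0 := by
  rw [eq_sum_sr x, map_sum, Finset.sum_apply]
  refine Finset.sum_eq_zero fun j _ => ?_
  rw [map_smul, Pi.smul_apply]
  by_cases hj : j ∈ K
  · obtain ⟨l, hl, e⟩ := hw j hj
    rw [e, sr_ne (by rintro rfl; exact hk hl), smul_zero]
  · rw [hx j hj, zero_smul]

omit R in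
theorem card_le_of_cj {G : Type*} [Group G] [Finite G] {H K : Subgroup G} {g : G} (hg : cj g H ≤ K) :
    Nat.card H ≤ Nat.card K := by
  refine Nat.card_le_card_of_injective (fun x : H => (⟨g * x * g⁻¹, hg (conj_mem_cj.2 x.2)⟩ : K)) ?_
  intro x y e
  have e1 : g * (x : G) * g⁻¹ = g * y * g⁻¹ := congrArg Subtype.val e
  exact Subtype.ext (mul_left_cancel (mul_right_cancel e1))

/-- if `w` maps the simple roots of `K` into those of `J` then `|P_K| ≤ |P_J|` and `|K| ≤ |J|` -/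
theorem card_le_of_maps [Finite W] [Finite Y] {K J : Set I} {w : W}
    (hw : ∀ i ∈ K, ∃ k ∈ J, rep cs h w (sr i) = sr k) :
    Nat.card (PJ cs h T X K) ≤ Nat.card (PJ cs h T X J) ∧ K.ncard ≤ J.ncard := by
  classical
  constructor
  · let K1 : Set I := {k | ∃ i ∈ K, rep cs h w (sr i) = sr k}
    have hK1 : K1 ⊆ J := by
      rintro k ⟨i, hi, e⟩
      obtain ⟨k', hk', e'⟩ := hw i hi
      have e2 : (sr k' : I → ℤ) = sr k := by rw [← e', e]
      have : k' = k := by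
        by_contra hne
        have h3 := congrFun e2 k'
        rw [sr_self, sr_ne hne] at h3
        exact one_ne_zero h3
      rwa [← this]
    have hw1 : ∀ i ∈ K, ∃ k ∈ K1, rep cs h w (sr i) = sr k := by
      intro i hi
      obtain ⟨k, -, e⟩ := hw i hi
      exact ⟨k, ⟨i, hi, e⟩, e⟩
    have hw2 : ∀ k ∈ K1, ∃ i ∈ K, rep cs h w⁻¹ (sr k) = sr i := by
      rintro k ⟨i, hi, e⟩
      exact ⟨i, hi, by rw [← e, rep_inv_apply]⟩
    obtain ⟨g, hg⟩ := exists_rp cs R.nsys w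
    have hL : Nat.card (LJ cs h T X K) ≤ Nat.card (LJ cs h T X K1) := by
      refine card_le_of_cj (g := g) ?_
      unfold LJ
      rw [cj_sup, cj_T R hg]
      refine sup_le_sup_left (cj_Sup_le R hg (fun x hx => hx.1) fun x hx => ?_) _
      exact ⟨hx.1.act _, fun k hk => rep_supp hw1 hx.2 k hk⟩
    have hU : Nat.card (UJ cs h X K1) ≤ Nat.card (UJ cs h X K) := by
      refine card_le_of_cj (g := g⁻¹) ?_
      refine cj_Sup_le R hg.inv (fun x hx => hx.1) fun x hx => ?_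
      refine ⟨hx.1.act _, ?_, fun k hk => rep_supp hw2 hx.2.2 k hk⟩
      refine rep_nonneg_of_supp (J := K1) (fun i hi => ?_) hx.2.1 hx.2.2
      obtain ⟨k, -, e⟩ := hw2 i hi
      rw [e]
      exact sr_nonneg k
    have hV : Nat.card (VJ cs h X K) ≤ Nat.card (VJ cs h X K1) := by
      have h1 := card_U (T := T) R K
      have h2 := card_U (T := T) R K1
      have hpos : 0 < Nat.card (UJ cs h X K) := Nat.card_pos
      by_contra hcon
      push Not at hcon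
      have h3 : Nat.card (UJ cs h X K1) * Nat.card (VJ cs h X K1) <
          Nat.card (UJ cs h X K) * Nat.card (VJ cs h X K) :=
        lt_of_le_of_lt (Nat.mul_le_mul_right _ hU) (Nat.mul_lt_mul_of_pos_left hcon hpos)
      omega
    calc Nat.card (PJ cs h T X K) = Nat.card (LJ cs h T X K) * Nat.card (VJ cs h X K) := card_PJ R K
      _ ≤ Nat.card (LJ cs h T X K1) * Nat.card (VJ cs h X K1) := Nat.mul_le_mul hL hV
      _ = Nat.card (PJ cs h T X K1) := (card_PJ R K1).symm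
      _ ≤ Nat.card (PJ cs h T X J) := Nat.card_le_card_of_injective
          (Subgroup.inclusion (PJ_mono hK1)) (Subgroup.inclusion_injective _)
  · choose f hf1 hf2 using hw
    refine Set.ncard_le_ncard_of_injOn (fun i => if hi : i ∈ K then f i hi else i) ?_ ?_ (Set.toFinite J)
    · intro i hi
      simp only [hi, dif_pos]
      exact hf1 i hi
    · intro i hi j hj e
      simp only [hi, hj, dif_pos] at e
      have h1 : rep cs h w (sr i) = rep cs h w (sr j) := by rw [hf2 i hi, hf2 j hj, e]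
      have h2 : (sr i : I → ℤ) = sr j := by
        have := congrArg (rep cs h w⁻¹) h1
        rwa [rep_inv_apply, rep_inv_apply] at this
      by_contra hne
      have h3 := congrFun h2 i
      rw [sr_self, sr_ne hne] at h3
      exact one_ne_zero h3

/-! ### automorphisms -/

/-- the nodes of the image of `P_J` -/
def nodes (cs : CoxeterSystem M W) (h : IsCartan M A) (T : Subgroup Y) (n : I → Y) (X : (I → ℤ) → Subgroup Y)
    (α : MulAut Y) (J : Set I) : Set I := {i | n i ∈ (PJ cs h T X J).map α.toMonoidHom}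

theorem PJ_nodes [Finite W] (hG : GG cs h T X = ⊤) {α : MulAut Y} (hB : Fix α (RGD.B cs h T X)) (J : Set I) :
    (PJ cs h T X J).map α.toMonoidHom = PJ cs h T X (nodes cs h T n X α J) := map_PJ R hG hB J

theorem PJ_inj [Finite W] {J J' : Set I} (e : PJ cs h T X J = PJ cs h T X J') : J = J' := by
  ext i
  rw [← n_mem_PJ_iff R J i, ← n_mem_PJ_iff R J' i, e]

theorem nodes_inv [Finite W] (hG : GG cs h T X = ⊤) {α : MulAut Y} (hB : Fix α (RGD.B cs h T X)) (J : Set I) :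
    nodes cs h T n X α⁻¹ (nodes cs h T n X α J) = J := by
  apply PJ_inj R
  rw [← PJ_nodes R hG hB.inv, ← PJ_nodes R hG hB]
  ext x
  constructor
  · rintro ⟨y, ⟨z, hz, rfl⟩, rfl⟩
    have e : α⁻¹ (α z) = z := MulAut.inv_apply_self _ _ _
    change α⁻¹ (α z) ∈ _
    rwa [e]
  · intro hx
    exact ⟨α x, ⟨x, hx, rfl⟩, MulAut.inv_apply_self _ _ _⟩

theorem nodes_mono [Finite W] (hG : GG cs h T X = ⊤) {α : MulAut Y} (hB : Fix α (RGD.B cs h T X)) {J J' : Set I}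
    (hJ : J ⊂ J') : nodes cs h T n X α J ⊂ nodes cs h T n X α J' := by
  refine ⟨fun i hi => Subgroup.map_mono (PJ_mono hJ.1) hi, fun hcon => hJ.2 ?_⟩
  have h1 := PJ_mono (cs := cs) (h := h) (T := T) (X := X) hcon
  rw [← PJ_nodes R hG hB, ← PJ_nodes R hG hB] at h1
  have h2 : PJ cs h T X J' ≤ PJ cs h T X J := (Subgroup.map_le_map_iff_of_injective α.injective).1 h1
  intro i hi
  rw [← n_mem_PJ_iff R J i]
  exact h2 ((n_mem_PJ_iff R J' i).2 hi)

theorem ncard_le_nodes [Finite W] (hG : GG cs h T X = ⊤) {α : MulAut Y} (hB : Fix α (RGD.B cs h T X)) (J : Set I) :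
    J.ncard ≤ (nodes cs h T n X α J).ncard := by
  classical
  induction J, Set.toFinite J using Set.Finite.induction_on with
  | empty => simp
  | @insert a s ha hs ih =>
    rw [Set.ncard_insert_of_notMem ha (Set.toFinite s)]
    have h1 := nodes_mono R hG hB (Set.ssubset_insert ha)
    have h2 := Set.ncard_lt_ncard h1 (Set.toFinite _)
    omega

/-- **Automorphisms and parabolic subgroups.** -/
theorem exists_nodes [Finite W] [Finite Y] [Fact r.Prime] (hG : GG cs h T X = ⊤) (σ : MulAut Y) :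
    ∃ f : Set I → Set I, (∀ J, Nat.card (PJ cs h T X (f J)) = Nat.card (PJ cs h T X J)) ∧
      (∀ J, (f J).ncard = J.ncard) ∧
      ∀ χ : Y → ℂ, IsClassFunction Y χ → ∀ J, HasFix (χ ∘ σ) (VJ cs h X J) → HasFix χ (VJ cs h X (f J)) := by
  obtain ⟨g, hg⟩ := exists_fixU R hG σ
  have hB := fix_B R hG hg
  refine ⟨nodes cs h T n X (MulAut.conj g * σ), fun J => ?_, fun J => ?_, ?_⟩
  · rw [← PJ_nodes R hG hB]
    exact (Nat.card_congr ((PJ cs h T X J).equivMapOfInjective _ (MulEquiv.injective _)).toEquiv).symm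
  · apply le_antisymm
    · have h1 := ncard_le_nodes R hG hB.inv (nodes cs h T n X (MulAut.conj g * σ) J)
      rwa [nodes_inv R hG hB] at h1
    · exact ncard_le_nodes R hG hB J
  · intro χ hχ J hJ
    have h1 := HasFix.comp (χ := χ) σ hJ
    refine h1.conj hχ g ?_
    rw [← map_VJ R hg (PJ_nodes R hG hB J), Subgroup.map_map]
    rfl

/-- **(K2)** -/
theorem HT.not_aut [Finite W] [Finite Y] [Fact r.Prime] (hG : GG cs h T X = ⊤) {χ χ' : Y → ℂ} {K K' : Set I}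
    (hχ : HT cs h X χ K) (hχ' : HT cs h X χ' K')
    (hne : Nat.card (PJ cs h T X K) ≠ Nat.card (PJ cs h T X K') ∨ K.ncard ≠ K'.ncard) (σ : Y ≃* Y) :
    ∃ g, χ (σ g) ≠ χ' g := by
  by_contra hcon
  push Not at hcon
  have e : χ ∘ σ = χ' := funext hcon
  have e' : χ' ∘ σ.symm = χ := by
    rw [← e]
    funext x
    simp
  obtain ⟨f, hf1, hf2, hf3⟩ := exists_nodes R hG σ
  obtain ⟨f', hf1', hf2', hf3'⟩ := exists_nodes R hG σ.symm
  obtain ⟨w, hw⟩ := hχ.le _ (hf3 χ (Core.isIrr_isClassFunction hχ.irr) K' (by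
    rw [e]; exact hχ'.fix))
  obtain ⟨w', hw'⟩ := hχ'.le _ (hf3' χ' (Core.isIrr_isClassFunction hχ'.irr) K (by
    rw [e']; exact hχ.fix))
  have h1 := card_le_of_maps R hw
  have h2 := card_le_of_maps R hw'
  rw [hf1, hf2] at h1
  rw [hf1', hf2'] at h2
  rcases hne with hne | hne
  · exact hne (le_antisymm h1.1 h2.1)
  · exact hne (le_antisymm h1.2 h2.2)

/-- strictly nested sets of nodes have parabolic subgroups of different orders -/
theorem card_PJ_lt [Finite W] [Finite Y] {K K' : Set I} (hK : K ⊂ K') :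
    Nat.card (PJ cs h T X K) < Nat.card (PJ cs h T X K') := by
  have h1 : PJ cs h T X K ≤ PJ cs h T X K' := PJ_mono hK.1
  refine lt_of_le_of_ne (Nat.card_le_card_of_injective (Subgroup.inclusion h1) (Subgroup.inclusion_injective _)) ?_
  intro e
  have h2 : PJ cs h T X K = PJ cs h T X K' := Subgroup.eq_of_le_of_card_ge h1 e.ge
  exact hK.ne (PJ_inj R h2)

omit R in
/-- a character of type `K ≠ ∅` has no `U`-fixed vectors -/
theorem HT.not_hasFix_U {χ : Y → ℂ} {K : Set I} (hχ : HT cs h X χ K) (hK : K.Nonempty) :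
    ¬ HasFix χ (RGD.Sup X (RGD.Pos cs h)) := by
  intro hfix
  have e : RGD.Sup X (RGD.Pos cs h) = VJ cs h X ∅ := by
    unfold VJ
    congr 1
    ext x
    constructor
    · intro hx
      obtain ⟨k, hk⟩ : ∃ k, 0 < x k := by
        by_contra hcon
        push Not at hcon
        exact hx.1.ne_zero (funext fun i => le_antisymm (hcon i) (hx.2 i))
      exact ⟨hx.1, hx.2, k, Set.notMem_empty k, hk⟩
    · exact fun hx => ⟨hx.1, hx.2.1⟩
  rw [e] at hfix
  obtain ⟨w, hw⟩ := hχ.le ∅ hfix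
  obtain ⟨i, hi⟩ := hK
  obtain ⟨k, hk, -⟩ := hw i hi
  exact hk

/-- **(K3)** -/
theorem HT.dvd_degree [Finite W] [Finite Y] {p : ℕ} [Fact p.Prime] [Fact r.Prime] (hpr : p ≠ r) (Q : Subgroup Y)
    (hQ : IsPGroup p Q) (hQT : Q ≤ T)
    (hC : ∀ u ∈ RGD.Sup X (RGD.Pos cs h), (∀ q ∈ Q, q * u = u * q) → u = 1) {χ : Y → ℂ} {K : Set I}
    (hχ : HT cs h X χ K) (hK : K.Nonempty) : p ∣ charDegree χ := by
  have : Fintype (RGD.Sup X (RGD.Pos cs h)) := Fintype.ofFinite _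
  refine Cfsg.Agent.H40.Fpf.dvd_degree Q (RGD.Sup X (RGD.Pos cs h)) hQ ?_ ?_ hC hχ.irr ?_
  · intro hd
    obtain ⟨k, hk⟩ := (IsPGroup.iff_card).1 R.isPGroup_Upos
    rw [hk] at hd
    exact hpr ((Nat.prime_dvd_prime_iff_eq Fact.out Fact.out).1 ((Fact.out : p.Prime).dvd_of_dvd_pow hd))
  · intro q hq v hv
    have h1 := R.T_le_normalizer (S := RGD.Pos cs h) (fun _ hx => hx.1) (hQT hq)
    exact (Subgroup.mem_normalizer_iff.1 h1 v).1 hv
  · by_contra h0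
    exact hχ.not_hasFix_U hK (hasFix_iff.2 h0)

/-- **`Many` from types.** -/
theorem many_of_types [Finite W] [Finite Y] [Fact r.Prime] (hG : GG cs h T X = ⊤) {p m : ℕ} (K : Fin m → Set I)
    (χ : Fin m → Y → ℂ) (hχ : ∀ i, HT cs h X (χ i) (K i)) (hd : ∀ i, p ∣ charDegree (χ i))
    (hne : ∀ i j, i < j → Nat.card (PJ cs h T X (K i)) ≠ Nat.card (PJ cs h T X (K j)) ∨ (K i).ncard ≠ (K j).ncard) :
    Many p Y m := by
  refine ⟨fun i => ⟨χ i, (hχ i).irr⟩, hd, fun i j hij σ => ?_⟩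
  refine (hχ i).not_aut R hG (hχ j) ?_ σ
  rcases lt_or_gt_of_ne hij with h1 | h1
  · exact hne i j h1
  · rcases hne j i h1 with h2 | h2
    · exact Or.inl h2.symm
    · exact Or.inr h2.symm

/-- **The combination of (K1), (K2), (K3).** -/
theorem many_of_cusps [Finite W] [Finite Y] {p : ℕ} [Fact p.Prime] [Fact r.Prime] (hG : GG cs h T X = ⊤)
    (hpr : p ≠ r) (Q : Subgroup Y) (hQ : IsPGroup p Q) (hQT : Q ≤ T)
    (hC : ∀ u ∈ RGD.Sup X (RGD.Pos cs h), (∀ q ∈ Q, q * u = u * q) → u = 1) {m : ℕ} (K : Fin m → Set I)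
    (hK : ∀ i, (K i).Nonempty) (hcusp : ∀ i, ∃ θ, Cusp cs h X (K i) θ)
    (hne : ∀ i j, i < j → Nat.card (PJ cs h T X (K i)) ≠ Nat.card (PJ cs h T X (K j)) ∨ (K i).ncard ≠ (K j).ncard) :
    Many p Y m := by
  have hex : ∀ i, ∃ χ : Y → ℂ, HT cs h X χ (K i) := by
    intro i
    obtain ⟨θ, hθ⟩ := hcusp i
    exact exists_HT R hG (K i) hθ.irr fun j hj => hθ.van j hj
  choose χ hχ using hex
  exact many_of_types R hG K χ hχ (fun i => (hχ i).dvd_degree R hpr Q hQ hQT hC (hK i)) hne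

/-- nested sets of nodes -/
theorem many_of_chain [Finite W] [Finite Y] {p : ℕ} [Fact p.Prime] [Fact r.Prime] (hG : GG cs h T X = ⊤)
    (hpr : p ≠ r) (Q : Subgroup Y) (hQ : IsPGroup p Q) (hQT : Q ≤ T)
    (hC : ∀ u ∈ RGD.Sup X (RGD.Pos cs h), (∀ q ∈ Q, q * u = u * q) → u = 1) {m : ℕ} (K : Fin m → Set I)
    (hK : ∀ i, (K i).Nonempty) (hcusp : ∀ i, ∃ θ, Cusp cs h X (K i) θ) (hne : StrictMono K) :
    Many p Y m :=
  many_of_cusps R hG hpr Q hQ hQT hC K hK hcusp fun _ _ hij => Or.inl (card_PJ_lt R (hne hij)).ne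

end Cfsg.Agent.H246.Dl
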