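import Cfsg.Agent.H246.Dl.KType
import Cfsg.Agent.CharactersDeep.MaxInduced
import Cfsg.Agent.H686.CharKit

/-!
# Harish-Chandra types, second part (helper246)

* `HT.of_ind` : an irreducible character induced from a cuspidal character of `P_K` has type `K`;
* `exists_HT_MJ` : `H53.HC.exists_irr_MJ` with the type;
* `HT.of_sum` : `χ` irreducible, `θ` a cuspidal character of `M_K`, `∑_{v ∈ V_K} ∑_{m ∈ M_K} χ(v m) conj θ(m) ≠ 0` ⟹ type `K`;
* `mult_ne_zero_of_constituent` : this sum for a constituent;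
* `HT.of_orth` : `ψ` a character of `P_{K ∪ K'}` trivial on the radical, `K ⟂ K'`, `ψ(a b) = θ(a) β(b)` on `M_K M_{K'}`,
  `β` with `U_{K'}`-fixed vectors: the characters above `ψ` have type `K`.
-/

set_option autoImplicit false

open scoped ComplexConjugate
open Cfsg

namespace Cfsg.Agent.H246.Dl

open Cfsg.Agent.OddOrderCharacters.Clifford Cfsg.Agent.Characters
open CoxeterSystem Cfsg.Agent.ChevalleyStructure.CoxeterGeom Cfsg.Agent.Tits.Roots Cfsg.Agent.Tits.Core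
  Cfsg.Agent.Tits.Exchange Cfsg.Agent.Nodes.Reps Cfsg.Agent.Nodes.BNOf Cfsg.Agent.Nodes.StabComb
  Cfsg.Agent.Nodes.Bruhat Cfsg.Agent.Nodes.OppDec Cfsg.Agent.Nodes.LeviDec Cfsg.Agent.H53.HC
  Cfsg.Agent.KFacts.RgdAut
open scoped Pointwise

section mult

variable {G : Type*} [Group G]

/-- The multiplicity sum of `θ ∈ Char M`, inflated to `V M`, is a natural number times `|V| |M|`. -/
theorem sum_sum_nat {P : Type*} [Group P] [Fintype P] (V M : Subgroup P) [Fintype V] [Fintype M]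
    (hn : M ≤ Subgroup.normalizer (V : Set P)) {ρ : P → ℂ} (hρ : IsCharacter P ρ) {θ : M → ℂ} (hθ : IsIrrCharacter M θ)
    (hVM : ∀ x, x ∈ V → x ∈ M → x = 1) :
    ∃ k : ℕ, ∑ v : V, ∑ m : M, ρ (v * m) * conj (θ m) = (Nat.card V : ℂ) * Nat.card M * k := by
  classical
  -- the inflation of `θ` to `D = V M`
  let D : Subgroup P := V ⊔ M
  have : Fintype D := Fintype.ofFinite D
  have hVD : V ≤ D := le_sup_left
  have hMD : M ≤ D := le_sup_right
  have hmem : ∀ g ∈ D, ∃ v ∈ V, ∃ m ∈ M, g = v * m := by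
    intro g hg
    have h1 : g ∈ ((V ⊔ M : Subgroup P) : Set P) := hg
    rw [Subgroup.coe_mul_of_right_le_normalizer_left _ _ hn, Set.mem_mul] at h1
    obtain ⟨v, hv, m, hm, e⟩ := h1
    exact ⟨v, hv, m, hm, e.symm⟩
  let V' : Subgroup D := V.subgroupOf D
  have hV' : V'.Normal := (Subgroup.normal_subgroupOf_iff_le_normalizer hVD).2
    (sup_le Subgroup.le_normalizer hn)
  let f : M →* D ⧸ V' := (QuotientGroup.mk' V').comp (Subgroup.inclusion hMD)
  have hinj : Function.Injective f := by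
    rw [injective_iff_map_eq_one]
    intro l hl
    have h1 : Subgroup.inclusion hMD l ∈ V' := (QuotientGroup.eq_one_iff _).1 hl
    rw [Subgroup.mem_subgroupOf] at h1
    exact Subtype.ext (hVM _ h1 l.2)
  have hsurj : Function.Surjective f := by
    intro q
    obtain ⟨⟨g, hg⟩, rfl⟩ := QuotientGroup.mk'_surjective V' q
    obtain ⟨v, hv, m, hm, rfl⟩ := hmem g hg
    refine ⟨⟨m, hm⟩, ?_⟩
    refine (QuotientGroup.eq (s := V')).2 ?_
    rw [Subgroup.mem_subgroupOf]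
    have e : ((((Subgroup.inclusion hMD ⟨m, hm⟩)⁻¹ * ⟨v * m, hg⟩ : ↥D)) : P) = m⁻¹ * v * m := by
      change m⁻¹ * (v * m) = _
      group
    rw [e]
    have := (Subgroup.mem_normalizer_iff.1 (inv_mem (hn hm)) v).1 hv
    rwa [inv_inv] at this
  let e : M ≃* D ⧸ V' := MulEquiv.ofBijective f ⟨hinj, hsurj⟩
  let π : D →* M := e.symm.toMonoidHom.comp (QuotientGroup.mk' V')
  have hπ : ∀ (v : P) (hv : v ∈ V) (m : M), π ⟨v * m, mul_mem (hVD hv) (hMD m.2)⟩ = m := by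
    intro v hv m
    have e1 : (⟨v * m, mul_mem (hVD hv) (hMD m.2)⟩ : D) = ⟨v, hVD hv⟩ * Subgroup.inclusion hMD m := rfl
    rw [e1, map_mul]
    have e2 : π ⟨v, hVD hv⟩ = 1 := by
      have h1 : QuotientGroup.mk' V' ⟨v, hVD hv⟩ = 1 := by
        refine (QuotientGroup.eq_one_iff _).2 ?_
        rw [Subgroup.mem_subgroupOf]
        exact hv
      change e.symm (QuotientGroup.mk' V' ⟨v, hVD hv⟩) = 1
      rw [h1, map_one]
    have e3 : π (Subgroup.inclusion hMD m) = m := by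
      change e.symm (f m) = m
      exact e.symm_apply_apply m
    rw [e2, e3, one_mul]
  have hπs : Function.Surjective π := by
    intro m
    refine ⟨⟨1 * m, mul_mem (hVD (one_mem V)) (hMD m.2)⟩, hπ 1 (one_mem V) m⟩
  obtain ⟨k, hk⟩ := Core.classInner_isNat (Core.isCharacter_comp D.subtype hρ)
    (Core.isIrr_isCharacter (Core.isIrr_comp π hπs hθ))
  refine ⟨k, ?_⟩
  have hcard : (Nat.card D : ℂ) = (Nat.card V : ℂ) * Nat.card M := by
    rw [← Nat.cast_mul, card_of_mul hVD hMD (fun g hg => hmem g hg) hVM]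
  rw [Core.classInner_def] at hk
  have hc : (Nat.card D : ℂ) ≠ 0 := Core.card_ne_zero_complex
  rw [← hcard, ← hk, mul_inv_cancel_left₀ hc]
  have hb : Function.Bijective (fun x : V × M => (⟨x.1 * x.2, mul_mem (hVD x.1.2) (hMD x.2.2)⟩ : D)) := by
    constructor
    · rintro ⟨a, c⟩ ⟨a', c'⟩ e
      have e1 : (a : P) * c = a' * c' := congrArg Subtype.val e
      have e2 : (a' : P)⁻¹ * a = c' * (c : P)⁻¹ := by
        rw [inv_mul_eq_iff_eq_mul, ← mul_assoc, ← e1, mul_inv_cancel_right]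
      have e3 := hVM ((a' : P)⁻¹ * a) (mul_mem (inv_mem a'.2) a.2) (by rw [e2]; exact mul_mem c'.2 (inv_mem c.2))
      have e4 : (a : P) = a' := (inv_mul_eq_one.1 e3).symm
      have e5 : (c : P) = c' := by
        rw [e3] at e2
        exact (mul_inv_eq_one.1 e2.symm).symm
      rw [Prod.mk.injEq]
      exact ⟨Subtype.ext e4, Subtype.ext e5⟩
    · rintro ⟨g, hg⟩
      obtain ⟨a, ha, c, hc, rfl⟩ := hmem g hg
      exact ⟨(⟨a, ha⟩, ⟨c, hc⟩), rfl⟩
  rw [← Finset.sum_product', Finset.univ_product_univ]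
  refine Fintype.sum_bijective _ hb _ _ ?_
  rintro ⟨v, m⟩
  simp only [Function.comp_apply]
  rw [hπ v v.2 m]
  rfl

/-- the multiplicity sum of a constituent -/
theorem mult_ne_zero_of_constituent {P : Type*} [Group P] [Fintype P] (V M : Subgroup P) [Fintype V] [Fintype M]
    (hn : M ≤ Subgroup.normalizer (V : Set P)) {ρ α : P → ℂ} (hρ : IsCharacter P ρ) (hα : IsIrrCharacter P α)
    (hne : classInner ρ α ≠ 0) {θ : M → ℂ} (hθ : IsIrrCharacter M θ) (hVM : ∀ x, x ∈ V → x ∈ M → x = 1)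
    (h0 : ∑ v : V, ∑ m : M, α (v * m) * conj (θ m) ≠ 0) :
    ∑ v : V, ∑ m : M, ρ (v * m) * conj (θ m) ≠ 0 := by
  obtain ⟨a, ha⟩ := sum_sum_nat V M hn (Core.isIrr_isCharacter hα) hθ hVM
  obtain ⟨b, hb⟩ := sum_sum_nat V M hn (isCharacter_sub_irr hρ hα hne) hθ hVM
  have e : ∑ v : V, ∑ m : M, ρ (v * m) * conj (θ m) = ∑ v : V, ∑ m : M, α (v * m) * conj (θ m) +
      ∑ v : V, ∑ m : M, (ρ - α) (v * m) * conj (θ m) := by
    rw [← Finset.sum_add_distrib]
    refine Finset.sum_congr rfl fun v _ => ?_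
    rw [← Finset.sum_add_distrib]
    refine Finset.sum_congr rfl fun m _ => ?_
    simp only [Pi.sub_apply]
    ring
  have hcV : (Nat.card V : ℂ) ≠ 0 := Core.card_ne_zero_complex
  have hcM : (Nat.card M : ℂ) ≠ 0 := Core.card_ne_zero_complex
  have ha0 : a ≠ 0 := by
    rintro rfl
    apply h0
    rw [ha]
    simp
  rw [e, ha, hb, ← mul_add]
  refine mul_ne_zero (mul_ne_zero hcV hcM) ?_
  have : a + b ≠ 0 := by omega
  exact_mod_cast this

/-- An irreducible character without `V`-fixed vectors, `V` normal: the sums over the cosets of `V` vanish. -/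
theorem sum_mul_eq_zero {P : Type*} [Group P] [Finite P] (V : Subgroup P) [V.Normal] [Fintype V] {β : P → ℂ}
    (hβ : IsIrrCharacter P β) (h0 : ∑ v : V, β v = 0) (g : P) : ∑ v : V, β (v * g) = 0 := by
  classical
  have : Fintype P := Fintype.ofFinite P
  have h1 := Core.isIrr_apply_one_ne_zero hβ
  obtain ⟨d, ρ, hirr, hρ⟩ := hβ
  let f : P → ℂ := fun g => if g ∈ V then 1 else 0
  have hf : IsClassFunction P f := by
    intro g x
    have e : x * g * x⁻¹ ∈ V ↔ g ∈ V := by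
      constructor
      · intro hx
        have := (‹V.Normal›).conj_mem _ hx x⁻¹
        simpa [mul_assoc] using this
      · exact fun hg => (‹V.Normal›).conj_mem _ hg x
    simp only [f, e]
  obtain ⟨c, hc⟩ := Core.exists_sum_smul_rho_inv_eq_smul_one hf ρ hirr
  have key : ∀ x : P, ∑ v : V, β (v * x) = c * β x := by
    intro x
    have e1 : LinearMap.trace ℂ (Fin d → ℂ) ((∑ g : P, f g • ρ g⁻¹) * ρ x) = c * β x := by
      rw [hc, smul_mul_assoc, one_mul, map_smul, smul_eq_mul, ← hρ]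
      rfl
    rw [Finset.sum_mul, map_sum] at e1
    rw [← e1]
    have e2 : ∀ g : P, LinearMap.trace ℂ (Fin d → ℂ) ((f g • ρ g⁻¹) * ρ x) = f g * β (g⁻¹ * x) := by
      intro g
      rw [smul_mul_assoc, ← map_mul, map_smul, smul_eq_mul, ← hρ]
      rfl
    rw [Finset.sum_congr rfl fun g _ => e2 g]
    have e3 : ∑ g : P, f g * β (g⁻¹ * x) = ∑ v : V, f v * β ((v : P)⁻¹ * x) := by
      refine sum_eq_sum_subgroup V _ fun g hg => ?_
      simp only [f, if_neg hg, zero_mul]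
    rw [e3]
    refine Fintype.sum_equiv (Equiv.inv V) _ _ fun v => ?_
    simp [f]
  have hc0 : c = 0 := by
    have e := key 1
    simp only [mul_one] at e
    rw [h0] at e
    exact (mul_eq_zero.1 e.symm).resolve_right h1
  rw [key, hc0, zero_mul]

/-- **Clifford's theorem** for subgroups `N ≤ P ≤ N_G(N)`, for a given character of `P`. -/
theorem over_of_ne {N P : Subgroup G} [Finite P] (hNP : N ≤ P) (hn : P ≤ Subgroup.normalizer (N : Set G))
    {θ : N → ℂ} (hθ : IsIrrCharacter N θ) {ψ : P → ℂ} (hψ : IsIrrCharacter P ψ) [Fintype N]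
    (hne : ∑ x : N, ψ ⟨x, hNP x.2⟩ * conj (θ x) ≠ 0) :
    ∃ (c : ℂ) (s : Finset (N → ℂ)), (∀ x : N, ψ ⟨x, hNP x.2⟩ = c * ∑ φ ∈ s, φ x) ∧
        ∀ φ ∈ s, ∃ g ∈ P, ∀ x (hx : x ∈ N), ∃ hx' : g * x * g⁻¹ ∈ N, φ ⟨x, hx⟩ = θ ⟨g * x * g⁻¹, hx'⟩ := by
  classical
  have : Fintype P := Fintype.ofFinite P
  let N' : Subgroup P := N.subgroupOf P
  have hN' : N'.Normal := (Subgroup.normal_subgroupOf_iff_le_normalizer hNP).2 hn
  have : Fintype N' := Fintype.ofFinite N'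
  let e : N' ≃* N := Subgroup.subgroupOfEquivOfLe hNP
  have hθ' : IsIrrCharacter N' (θ ∘ e) := Core.isIrr_comp e.toMonoidHom e.surjective hθ
  have hne' : classInner (fun n : N' => ψ n) (θ ∘ e) ≠ 0 := by
    rw [Core.classInner_def]
    refine mul_ne_zero (inv_ne_zero Core.card_ne_zero_complex) ?_
    intro h0
    apply hne
    rw [← h0]
    refine (Fintype.sum_equiv e.toEquiv _ _ fun n => ?_).symm
    rfl
  refine ⟨classInner (fun n : N' => ψ n) (θ ∘ e),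
    (Finset.univ.image (fun x : P => (θ ∘ e) ∘ (MulAut.conjNormal x : MulAut N'))).image (fun φ => φ ∘ e.symm), ?_, ?_⟩
  · intro x
    have h1 := Cfsg.Agent.CharactersDeep.CliffordSum.restrict_eq_smul_sum N' hψ hθ' hne'
    have h2 := congrFun h1 (e.symm x)
    rw [Pi.smul_apply, Finset.sum_apply, smul_eq_mul] at h2
    rw [Finset.sum_image (by
      intro a _ b _ hab
      funext z
      have := congrFun hab (e z)
      simpa using this)]
    exact h2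
  · intro φ hφ
    obtain ⟨φ', hφ', rfl⟩ := Finset.mem_image.1 hφ
    obtain ⟨g, -, rfl⟩ := Finset.mem_image.1 hφ'
    refine ⟨g, g.2, fun x hx => ?_⟩
    have h1 : (g : G) * x * (g : G)⁻¹ ∈ N := (Subgroup.mem_normalizer_iff.1 (hn g.2) x).1 hx
    refine ⟨h1, ?_⟩
    rfl

end mult

variable {I W Y : Type*} [Fintype I] [DecidableEq I] [Group W] [Group Y] {M : CoxeterMatrix I}
  {cs : CoxeterSystem M W} {A : I → I → ℤ} {h : IsCartan M A} {r : ℕ} {T : Subgroup Y} {n : I → Y}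
  {X : (I → ℤ) → Subgroup Y}

variable (R : RGD cs h r T n X)

include R

/-- The characters of `L_K` over a cuspidal character of `M_K` are cuspidal. -/
theorem sum_rad_eq_zero (K : Set I) {θ : ↥(MJ cs h X K) → ℂ} (hθ : IsIrrCharacter _ θ)
    (hc : ∀ i ∈ K, ∀ [Fintype (rad cs h X K i)], ∑ u : rad cs h X K i, θ ⟨u, rad_le_MJ K i u.2⟩ = 0)
    {ψ : ↥(LJ cs h T X K) → ℂ} {c : ℂ} {s : Finset (↥(MJ cs h X K) → ℂ)}
    (hres : ∀ x : MJ cs h X K, ψ ⟨x, MJ_le_LJ K x.2⟩ = c * ∑ φ ∈ s, φ x)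
    (hsφ : ∀ φ ∈ s, ∃ g ∈ LJ cs h T X K, ∀ x (hx : x ∈ MJ cs h X K), ∃ hx' : g * x * g⁻¹ ∈ MJ cs h X K,
      φ ⟨x, hx⟩ = θ ⟨g * x * g⁻¹, hx'⟩) :
    ∀ i ∈ K, ∀ [Fintype (rad cs h X K i)], ∑ u : rad cs h X K i, ψ ⟨u, rad_le_LJ K i u.2⟩ = 0 := by
  classical
  have hsT : ∀ φ ∈ s, ∃ t, ∃ ht : t ∈ T, φ = θ ∘ conjME (MJ cs h X K) (T_le_normalizer_MJ R K ht) := by
    intro φ hφ
    obtain ⟨g, hg, hgφ⟩ := hsφ φ hφ
    obtain ⟨m, hm, t, ht, rfl⟩ := (mem_LJ_iff_mul' R K).1 hg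
    refine ⟨t, ht, ?_⟩
    funext x
    obtain ⟨hx', e⟩ := hgφ x x.2
    rw [e, Function.comp_apply]
    have h1 := Core.isIrr_isClassFunction hθ (conjME (MJ cs h X K) (T_le_normalizer_MJ R K ht) x) ⟨m, hm⟩
    rw [← h1]
    congr 1
    apply Subtype.ext
    simp only [conjME_coe, Subgroup.coe_mul, InvMemClass.coe_inv]
    group
  intro i hi hf
  have h1 : ∀ u : rad cs h X K i, ψ ⟨u, rad_le_LJ K i u.2⟩ = c * ∑ φ ∈ s, φ ⟨u, rad_le_MJ K i u.2⟩ :=
    fun u => hres ⟨u, rad_le_MJ K i u.2⟩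
  rw [Finset.sum_congr rfl fun u _ => h1 u, ← Finset.mul_sum, Finset.sum_comm]
  rw [Finset.sum_eq_zero, mul_zero]
  intro φ hφ
  obtain ⟨t, ht, rfl⟩ := hsT φ hφ
  rw [← hc i hi]
  exact Fintype.sum_equiv (conjME (rad cs h X K i) (T_le_normalizer_rad R K i ht)).toEquiv _ _ fun u => rfl

/-- **`HT` from the multiplicity of a cuspidal character of `M_K` in the `V_K`-fixed vectors.** -/
theorem HT.of_sum [Finite W] [Finite Y] (hG : GG cs h T X = ⊤) (K : Set I) {θ : ↥(MJ cs h X K) → ℂ}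
    (hθ : IsIrrCharacter _ θ)
    (hc : ∀ i ∈ K, ∀ [Fintype (rad cs h X K i)], ∑ u : rad cs h X K i, θ ⟨u, rad_le_MJ K i u.2⟩ = 0)
    {χ : Y → ℂ} (hχ : IsIrrCharacter Y χ) [Fintype (VJ cs h X K)] [Fintype (MJ cs h X K)]
    (hsum : ∑ v : VJ cs h X K, ∑ m : MJ cs h X K, χ (v * m) * conj (θ m) ≠ 0) : HT cs h X χ K := by
  classical
  have : Fintype Y := Fintype.ofFinite Y
  have : Fintype (PJ cs h T X K) := Fintype.ofFinite _
  have : Finite (IrrCharacter (PJ cs h T X K)) := Core.finite_irr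
  have : Fintype (IrrCharacter (PJ cs h T X K)) := Fintype.ofFinite _
  have hVP : VJ cs h X K ≤ PJ cs h T X K := VJ_le_PJ
  have hMP : MJ cs h X K ≤ PJ cs h T X K := le_trans (MJ_le_LJ K) LJ_le_PJ
  have hN : ((VJ cs h X K).subgroupOf (PJ cs h T X K)).Normal :=
    (Subgroup.normal_subgroupOf_iff_le_normalizer hVP).2 (PJ_le_normalizer_VJ R K)
  have : Fintype ((VJ cs h X K).subgroupOf (PJ cs h T X K)) := Fintype.ofFinite _
  have hres : IsCharacter (PJ cs h T X K) (fun t : PJ cs h T X K => χ t) :=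
    Core.isCharacter_comp (PJ cs h T X K).subtype (Core.isIrr_isCharacter hχ)
  obtain ⟨m, hm⟩ := Core.exists_nat_comb hres
  have h1 : (∑ v : VJ cs h X K, ∑ x : MJ cs h X K, χ (v * x) * conj (θ x) : ℂ) =
      ∑ ψ : IrrCharacter (PJ cs h T X K), (m ψ : ℂ) * ∑ v : VJ cs h X K, ∑ x : MJ cs h X K,
        (ψ : PJ cs h T X K → ℂ) ⟨v * x, mul_mem (hVP v.2) (hMP x.2)⟩ * conj (θ x) := by
    symm
    simp only [Finset.mul_sum]
    rw [Finset.sum_comm]
    refine Finset.sum_congr rfl fun v _ => ?_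
    rw [Finset.sum_comm]
    refine Finset.sum_congr rfl fun x _ => ?_
    have h2 := congrFun hm ⟨v * x, mul_mem (hVP v.2) (hMP x.2)⟩
    simp only [Finset.sum_apply, nsmul_eq_mul] at h2
    have h3 : χ (v * x) = ∑ ψ : IrrCharacter (PJ cs h T X K), (m ψ : ℂ) *
      (ψ : PJ cs h T X K → ℂ) ⟨v * x, mul_mem (hVP v.2) (hMP x.2)⟩ := h2
    rw [h3, Finset.sum_mul]
    refine Finset.sum_congr rfl fun ψ _ => ?_
    ring
  rw [h1] at hsum
  obtain ⟨ψ, -, hψ⟩ := Finset.exists_ne_zero_of_sum_ne_zero hsum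
  have hm0 : (m ψ : ℂ) ≠ 0 := left_ne_zero_of_mul hψ
  have hs0 := right_ne_zero_of_mul hψ
  -- the sum over `V_K`
  have hVsum : ∀ x : PJ cs h T X K, ∑ v : VJ cs h X K, (ψ : PJ cs h T X K → ℂ) (⟨v, hVP v.2⟩ * x) =
      ∑ v : (VJ cs h X K).subgroupOf (PJ cs h T X K), (ψ : PJ cs h T X K → ℂ) (v * x) := by
    intro x
    exact Fintype.sum_equiv (Subgroup.subgroupOfEquivOfLe hVP).symm.toEquiv _ _ fun v => rfl
  have htriv : ∑ v : (VJ cs h X K).subgroupOf (PJ cs h T X K), (ψ : PJ cs h T X K → ℂ) v ≠ 0 := by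
    intro h0
    apply hs0
    rw [Finset.sum_comm]
    refine Finset.sum_eq_zero fun x _ => ?_
    rw [← Finset.sum_mul]
    have h3 := sum_mul_eq_zero _ ψ.2 h0 (⟨x, hMP x.2⟩ : PJ cs h T X K)
    rw [← hVsum] at h3
    have h4 : ∑ v : VJ cs h X K, (ψ : PJ cs h T X K → ℂ) ⟨v * x, mul_mem (hVP v.2) (hMP x.2)⟩ = 0 := h3
    rw [h4, zero_mul]
  have hV : ∀ (v : Y) (hv : v ∈ VJ cs h X K), (ψ : PJ cs h T X K → ℂ) ⟨v, VJ_le_PJ hv⟩ =
      (ψ : PJ cs h T X K → ℂ) 1 := fun v hv =>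
    const_of_sum_ne_zero _ ψ.2 htriv _ (by rw [Subgroup.mem_subgroupOf]; exact hv)
  -- `ψ (v x) = ψ x`
  have hVx : ∀ (v : Y) (hv : v ∈ VJ cs h X K) (x : PJ cs h T X K),
      (ψ : PJ cs h T X K → ℂ) (⟨v, VJ_le_PJ hv⟩ * x) = (ψ : PJ cs h T X K → ℂ) x := by
    intro v hv x
    exact H686.CharKit.apply_mul_of_eq (Core.isIrr_isCharacter ψ.2) (hV v hv) x
  -- the restriction to `L_K`
  obtain ⟨π, hπ1, hπ2⟩ := exists_projL R K
  let ψL : ↥(LJ cs h T X K) → ℂ := fun l => (ψ : PJ cs h T X K → ℂ) ⟨l, LJ_le_PJ l.2⟩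
  have hψLc : IsCharacter _ ψL := Core.isCharacter_comp (Subgroup.inclusion LJ_le_PJ) (Core.isIrr_isCharacter ψ.2)
  have hcomp : ψL ∘ π = (ψ : PJ cs h T X K → ℂ) := by
    funext x
    obtain ⟨l, hl, v, hv, e⟩ := (mem_PJ R).1 x.2
    have e1 : x = ⟨l, LJ_le_PJ hl⟩ * ⟨v, VJ_le_PJ hv⟩ := Subtype.ext e
    rw [e1, H686.CharKit.apply_mul_of_eq' (Core.isIrr_isCharacter ψ.2) (hV v hv), Function.comp_apply, map_mul,
      hπ1 l hl, hπ2 v hv, mul_one]
  have hψL : IsIrrCharacter _ ψL := by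
    refine Cfsg.Agent.CharactersDeep.MaxInduced.isIrr_of_comp π hψLc ?_
    rw [hcomp]
    exact ψ.2
  have hne : ∑ x : MJ cs h X K, ψL ⟨x, MJ_le_LJ K x.2⟩ * conj (θ x) ≠ 0 := by
    intro h0
    apply hs0
    refine Finset.sum_eq_zero fun v _ => ?_
    rw [← h0]
    refine Finset.sum_congr rfl fun x _ => ?_
    congr 1
    exact hVx v v.2 ⟨x, hMP x.2⟩
  obtain ⟨c, s, h5, h6⟩ := over_of_ne (MJ_le_LJ (T := T) K) (LJ_le_normalizer_MJ R K) hθ hψL hne
  have hcusp := sum_rad_eq_zero R K hθ hc h5 h6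
  refine HT.of_psi R hG K ψ.2 hV hcusp hχ ?_
  apply classInner_symm_ne
  rw [hm, Core.classInner_sum_nsmul_irr]
  exact hm0

/-- An irreducible character induced from a cuspidal character of `P_K` has type `K`. -/
theorem HT.of_ind [Finite W] [Finite Y] (hG : GG cs h T X = ⊤) (K : Set I) {ψ : ↥(PJ cs h T X K) → ℂ}
    (hψ : IsIrrCharacter _ ψ)
    (hV : ∀ (v : Y) (hv : v ∈ VJ cs h X K), ψ ⟨v, VJ_le_PJ hv⟩ = ψ 1)
    (hc : ∀ i ∈ K, ∀ [Fintype (rad cs h X K i)], ∑ u : rad cs h X K i, ψ ⟨u, rad_le_PJ K i u.2⟩ = 0)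
    [Fintype Y] (hχ : IsIrrCharacter Y (indFun (PJ cs h T X K) ψ)) :
    HT cs h X (indFun (PJ cs h T X K) ψ) K := by
  classical
  have : Fintype (PJ cs h T X K) := Fintype.ofFinite _
  refine HT.of_psi R hG K hψ hV hc hχ ?_
  rw [← classInner_indFun (PJ cs h T X K) ψ _ (Core.isIrr_isClassFunction hχ), Core.classInner_irr_self hχ]
  exact one_ne_zero

/-- **`H53.HC.exists_irr_MJ` with the type.** -/
theorem exists_HT_MJ [Finite W] [Fintype Y] (hG : GG cs h T X = ⊤) (J : Set I)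
    {θ : ↥(MJ cs h X J) → ℂ} (hθ : IsIrrCharacter _ θ)
    (hc : ∀ i ∈ J, ∀ [Fintype (rad cs h X J i)], ∑ u : rad cs h X J i, θ ⟨u, rad_le_MJ J i u.2⟩ = 0)
    (hs : ∀ w g (hg : Rp cs R.nsys w g), w ∉ WJ cs J → ∀ hw : Perm cs h J w,
      ∃ (m : Y) (hm : m ∈ MJ cs h X J), θ ⟨g⁻¹ * m * g, conj_mem_MJ R hg hw hm⟩ ≠ θ ⟨m, hm⟩) :
    ∃ χ : Y → ℂ, HT cs h X χ J ∧ ∃ k : ℕ, 0 < k ∧ χ 1 = (PJ cs h T X J).index * (k * θ 1) := by
  classical
  obtain ⟨ψ, hψ, ⟨k, hk, hk1⟩, c, s, hres, hsφ⟩ := exists_over (MJ_le_LJ (T := T) J) (LJ_le_normalizer_MJ R J) hθ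
  obtain ⟨ψ', hψ', hψL, hψV⟩ := exists_infl R J hψ
  have hres' : ∀ (m : Y) (hm : m ∈ MJ cs h X J), ψ' ⟨m, LJ_le_PJ (MJ_le_LJ J hm)⟩ = c * ∑ φ ∈ s, φ ⟨m, hm⟩ := by
    intro m hm
    rw [hψL]
    exact hres ⟨m, hm⟩
  -- the conjugates are conjugates under the torus
  have hsT : ∀ φ ∈ s, ∃ t, ∃ ht : t ∈ T, φ = θ ∘ conjME (MJ cs h X J) (T_le_normalizer_MJ R J ht) := by
    intro φ hφ
    obtain ⟨g, hg, hgφ⟩ := hsφ φ hφ
    obtain ⟨m, hm, t, ht, rfl⟩ := (mem_LJ_iff_mul' R J).1 hg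
    refine ⟨t, ht, ?_⟩
    funext x
    obtain ⟨hx', e⟩ := hgφ x x.2
    rw [e, Function.comp_apply]
    have h1 := Core.isIrr_isClassFunction hθ (conjME (MJ cs h X J) (T_le_normalizer_MJ R J ht) x) ⟨m, hm⟩
    rw [← h1]
    congr 1
    apply Subtype.ext
    simp only [conjME_coe, Subgroup.coe_mul, InvMemClass.coe_inv]
    group
  have hcusp : ∀ i ∈ J, ∀ [Fintype (rad cs h X J i)], ∑ u : rad cs h X J i, ψ' ⟨u, rad_le_PJ J i u.2⟩ = 0 := by
    intro i hi hf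
    have h1 := sum_rad_eq_zero R J hθ hc hres hsφ i hi
    rw [← h1]
    refine Finset.sum_congr rfl fun u _ => ?_
    exact hψL u (rad_le_LJ J i u.2)
  have hirr : IsIrrCharacter Y (indFun (PJ cs h T X J) ψ') := by
    refine isIrr_indFun_rgd R hG J hψ' hψV hcusp ?_
    intro w g hg hw hp
    have hgn := inv_mem (rp_mem_normalizer_MJ R hg hp)
    refine ⟨MJ cs h X J, le_trans (MJ_le_LJ J) LJ_le_PJ,
      fun l hl => LJ_le_PJ (MJ_le_LJ J (conj_mem_MJ R hg hp hl)), ?_⟩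
    intro hf
    have h1 : ∀ l : MJ cs h X J, ψ' ⟨l, LJ_le_PJ (MJ_le_LJ J l.2)⟩ *
        conj (ψ' ⟨g⁻¹ * l * g, LJ_le_PJ (MJ_le_LJ J (conj_mem_MJ R hg hp l.2))⟩) =
        ∑ φ ∈ s, ∑ φ' ∈ s, (c * conj c) * (φ l * conj ((φ' ∘ conjME (MJ cs h X J) hgn) l)) := by
      intro l
      have e2 : (⟨g⁻¹ * l * g, conj_mem_MJ R hg hp l.2⟩ : MJ cs h X J) = conjME (MJ cs h X J) hgn l := by
        apply Subtype.ext
        rw [conjME_coe, inv_inv]
      rw [hres' l l.2, hres' _ (conj_mem_MJ R hg hp l.2), e2, map_mul, map_sum]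
      simp only [← Finset.mul_sum, Function.comp_apply]
      rw [← Finset.sum_mul]
      ring
    rw [Finset.sum_congr rfl fun l _ => h1 l, Finset.sum_comm]
    refine Finset.sum_eq_zero fun φ hφ => ?_
    rw [Finset.sum_comm]
    refine Finset.sum_eq_zero fun φ' hφ' => ?_
    rw [← Finset.mul_sum]
    obtain ⟨t, ht, rfl⟩ := hsT φ hφ
    obtain ⟨t', ht', rfl⟩ := hsT φ' hφ'
    have hne : θ ∘ conjME (MJ cs h X J) (T_le_normalizer_MJ R J ht) ≠
        (θ ∘ conjME (MJ cs h X J) (T_le_normalizer_MJ R J ht')) ∘ conjME (MJ cs h X J) hgn := by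
      intro he
      have hg' : Rp cs R.nsys w (t * g * t'⁻¹) := by
        have h2 := ((rp_of_mem (cs := cs) (hN := R.nsys) ht).mul hg).mul
          (rp_of_mem (cs := cs) (hN := R.nsys) (inv_mem ht'))
        rwa [one_mul, mul_one] at h2
      obtain ⟨m, hm, hne⟩ := hs w _ hg' hw hp
      apply hne
      have h3 := congrFun he (conjME (MJ cs h X J) (inv_mem (T_le_normalizer_MJ R J ht)) ⟨m, hm⟩)
      simp only [Function.comp_apply] at h3
      refine Eq.trans ?_ (h3.symm.trans ?_)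
      · congr 1
        apply Subtype.ext
        simp only [conjME_coe]
        group
      · congr 1
        apply Subtype.ext
        simp only [conjME_coe]
        group
    have hi1 : IsIrrCharacter _ (θ ∘ conjME (MJ cs h X J) (T_le_normalizer_MJ R J ht)) :=
      Core.isIrr_comp (conjME _ (T_le_normalizer_MJ R J ht)).toMonoidHom (MulEquiv.surjective _) hθ
    have hi2 : IsIrrCharacter _ (θ ∘ conjME (MJ cs h X J) (T_le_normalizer_MJ R J ht')) :=
      Core.isIrr_comp (conjME _ (T_le_normalizer_MJ R J ht')).toMonoidHom (MulEquiv.surjective _) hθ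
    have hi3 : IsIrrCharacter _ ((θ ∘ conjME (MJ cs h X J) (T_le_normalizer_MJ R J ht')) ∘
        conjME (MJ cs h X J) hgn) :=
      Core.isIrr_comp (conjME _ hgn).toMonoidHom (MulEquiv.surjective _) hi2
    have h4 := Core.classInner_irr_ne hi1 hi3 hne
    rw [Core.classInner_def, mul_eq_zero] at h4
    rcases h4 with h4 | h4
    · exact absurd (inv_eq_zero.1 h4) Core.card_ne_zero_complex
    · rw [mul_eq_zero]
      exact Or.inr h4
  refine ⟨indFun (PJ cs h T X J) ψ', HT.of_ind R hG J hψ' hψV hcusp hirr, k, hk, ?_⟩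
  rw [indFun_one]
  congr 1
  rw [← hk1]
  exact hψL 1 (one_mem _)

/-! ### orthogonal sets of nodes -/

omit R in
theorem UJ_le_VJ_of_orth {K K' : Set I} (ho : Orth A K K') : UJ cs h X K' ≤ VJ cs h X K := by
  refine RGD.Sup_mono fun x hx => ⟨hx.1, hx.2.1, ?_⟩
  obtain ⟨i, hi, h0⟩ := exists_ne_zero (PosJ_subset K' hx)
  refine ⟨i, fun hiK => (ho i hiK i hi).1 rfl, ?_⟩
  exact lt_of_le_of_ne (hx.2.1 i) (Ne.symm h0)

omit R in
theorem VJ_anti {J J' : Set I} (hJ : J ⊆ J') : VJ cs h X J' ≤ VJ cs h X J := by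
  refine RGD.Sup_mono ?_
  rintro x ⟨h1, h2, k, hk, h3⟩
  exact ⟨h1, h2, k, fun hkJ => hk (hJ hkJ), h3⟩

/-- `V_K = U_{K'} V_{K ∪ K'}` for orthogonal sets of nodes -/
theorem mem_VJ_of_orth [Finite W] {K K' : Set I} (ho : Orth A K K') {g : Y} (hg : g ∈ VJ cs h X K) :
    ∃ b ∈ UJ cs h X K', ∃ v ∈ VJ cs h X (K ∪ K'), g = b * v := by
  obtain ⟨u, hu, v, hv, rfl⟩ := (mem_U_iff R (J := K ∪ K')).1 (VJ_le_U K hg)
  have hvK : v ∈ VJ cs h X K := VJ_anti Set.subset_union_left hv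
  have hu1 : u ∈ UJ cs h X K ⊔ UJ cs h X K' := by
    have hle : UJ cs h X (K ∪ K') ≤ UJ cs h X K ⊔ UJ cs h X K' := by
      refine RGD.Sup_le fun x hx => ?_
      rcases ho.roots (PosJ_subset _ hx) with h1 | h1
      · exact le_trans (RGD.le_Sup (S := PosJ cs h K) ⟨h1.1, hx.2.1, h1.2⟩) le_sup_left
      · exact le_trans (RGD.le_Sup (S := PosJ cs h K') ⟨h1.1, hx.2.1, h1.2⟩) le_sup_right
    exact hle hu
  have hUM : ∀ J : Set I, UJ cs h X J ≤ MJ cs h X J := fun J => RGD.Sup_mono fun x hx => PosJ_subset J hx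
  have hcomm := ho.comm R
  have hn : UJ cs h X K ≤ Subgroup.normalizer (UJ cs h X K' : Set Y) := by
    intro a ha
    rw [Subgroup.mem_normalizer_iff]
    intro b
    have hab : ∀ b ∈ UJ cs h X K', a * b * a⁻¹ = b := fun b hb => by
      rw [hcomm a (hUM K ha) b (hUM K' hb), mul_inv_cancel_right]
    constructor
    · intro hb
      rw [hab b hb]
      exact hb
    · intro hb
      have h1 := hcomm a⁻¹ (inv_mem (hUM K ha)) _ (hUM K' hb)
      have e : b = a⁻¹ * (a * b * a⁻¹) * a := by group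
      rw [h1, inv_mul_cancel_right] at e
      rw [e]
      exact hb
  have hu2 : u ∈ ((UJ cs h X K ⊔ UJ cs h X K' : Subgroup Y) : Set Y) := hu1
  rw [Subgroup.coe_mul_of_left_le_normalizer_right _ _ hn, Set.mem_mul] at hu2
  obtain ⟨a, ha, b, hb, rfl⟩ := hu2
  have hb' : b ∈ VJ cs h X K := UJ_le_VJ_of_orth ho hb
  have ha' : a ∈ VJ cs h X K := by
    have e : a = (a * b * v) * v⁻¹ * b⁻¹ := by group
    rw [e]
    exact mul_mem (mul_mem hg (inv_mem hvK)) (inv_mem hb')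
  have ha1 : a = 1 := eq_one_of_mem_LJ_of_mem_VJ R (T := T) (BJ_le_LJ (UJ_le_BJ ha)) ha'
  exact ⟨b, hb, v, hv, by rw [ha1, one_mul]⟩

theorem MJ_inf_VJ [Finite W] (K : Set I) {x : Y} (h1 : x ∈ VJ cs h X K) (h2 : x ∈ MJ cs h X K) : x = 1 :=
  eq_one_of_mem_LJ_of_mem_VJ R (T := T) (MJ_le_LJ K h2) h1

omit R in
theorem UJ_mul_MJ_mem {K K' : Set I} {b a : Y} (hb : b ∈ UJ cs h X K') (ha : a ∈ MJ cs h X K) :
    b * a ∈ PJ cs h T X (K ∪ K') :=
  mul_mem (B_le_PJ (RGD.U_le_B (UJ_le_U K' hb))) (LJ_le_PJ (LJ_mono Set.subset_union_left (MJ_le_LJ K ha)))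

/-- **Characters above `θ × β`, `β` with `U_{K'}`-fixed vectors, have type `K`.** -/
theorem HT.of_orth [Finite W] [Finite Y] (hG : GG cs h T X = ⊤) {K K' : Set I} (ho : Orth A K K')
    {θ : ↥(MJ cs h X K) → ℂ} (hθ : IsIrrCharacter _ θ)
    (hc : ∀ i ∈ K, ∀ [Fintype (rad cs h X K i)], ∑ u : rad cs h X K i, θ ⟨u, rad_le_MJ K i u.2⟩ = 0)
    {ψ : ↥(PJ cs h T X (K ∪ K')) → ℂ} [Fintype ↥(PJ cs h T X (K ∪ K'))] (hψ : IsIrrCharacter _ ψ)
    (hV : ∀ (v : Y) (hv : v ∈ VJ cs h X (K ∪ K')), ψ ⟨v, VJ_le_PJ hv⟩ = ψ 1)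
    [Fintype (UJ cs h X K')] [Fintype (MJ cs h X K)]
    (hne : ∑ b : UJ cs h X K', ∑ a : MJ cs h X K, ψ ⟨b * a, UJ_mul_MJ_mem b.2 a.2⟩ * conj (θ a) ≠ 0)
    {χ : Y → ℂ} (hχ : IsIrrCharacter Y χ)
    (hχψ : classInner ψ (fun t : PJ cs h T X (K ∪ K') => χ t) ≠ 0) :
    HT cs h X χ K := by
  classical
  have : Fintype Y := Fintype.ofFinite Y
  have : Fintype (VJ cs h X K) := Fintype.ofFinite _
  have : Fintype (VJ cs h X (K ∪ K')) := Fintype.ofFinite _
  refine HT.of_sum R hG K hθ hc hχ ?_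
  have hVP : VJ cs h X K ≤ PJ cs h T X (K ∪ K') := le_trans (VJ_le_B K) B_le_PJ
  have hMP : MJ cs h X K ≤ PJ cs h T X (K ∪ K') := le_trans (MJ_le_LJ K) (le_trans (LJ_mono Set.subset_union_left) LJ_le_PJ)
  let V' := (VJ cs h X K).subgroupOf (PJ cs h T X (K ∪ K'))
  let M' := (MJ cs h X K).subgroupOf (PJ cs h T X (K ∪ K'))
  have : Fintype V' := Fintype.ofFinite _
  have : Fintype M' := Fintype.ofFinite _
  let eV : V' ≃* VJ cs h X K := Subgroup.subgroupOfEquivOfLe hVP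
  let eM : M' ≃* MJ cs h X K := Subgroup.subgroupOfEquivOfLe hMP
  have hn : M' ≤ Subgroup.normalizer (V' : Set ↥(PJ cs h T X (K ∪ K'))) := by
    intro m hm
    rw [Subgroup.mem_normalizer_iff]
    intro v
    have hm' : (m : Y) ∈ Subgroup.normalizer (VJ cs h X K : Set Y) :=
      LJ_le_normalizer_VJ R K (MJ_le_LJ K (Subgroup.mem_subgroupOf.1 hm))
    rw [Subgroup.mem_subgroupOf, Subgroup.mem_subgroupOf]
    exact Subgroup.mem_normalizer_iff.1 hm' v
  have hχc : IsCharacter _ (fun t : PJ cs h T X (K ∪ K') => χ t) :=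
    Core.isCharacter_comp (PJ cs h T X (K ∪ K')).subtype (Core.isIrr_isCharacter hχ)
  have hθ' : IsIrrCharacter M' (θ ∘ eM) := Core.isIrr_comp eM.toMonoidHom eM.surjective hθ
  have hVM : ∀ x, x ∈ V' → x ∈ M' → x = 1 := by
    intro x h1 h2
    rw [Subgroup.mem_subgroupOf] at h1 h2
    exact Subtype.ext (MJ_inf_VJ R K h1 h2)
  have key := mult_ne_zero_of_constituent V' M' hn hχc hψ (classInner_symm_ne hχψ) hθ' hVM ?_
  · intro h0
    apply key
    rw [← h0]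
    refine Fintype.sum_equiv eV.toEquiv _ _ fun v => ?_
    exact Fintype.sum_equiv eM.toEquiv _ _ fun m => rfl
  · -- the sum for `ψ`
    have e1 : ∑ v : V', ∑ m : M', ψ (v * m) * conj ((θ ∘ eM) m) =
        ∑ v : VJ cs h X K, ∑ a : MJ cs h X K, ψ ⟨v * a, mul_mem (hVP v.2) (hMP a.2)⟩ * conj (θ a) := by
      refine Fintype.sum_equiv eV.toEquiv _ _ fun v => ?_
      exact Fintype.sum_equiv eM.toEquiv _ _ fun m => rfl
    rw [e1]
    have hUV : UJ cs h X K' ≤ VJ cs h X K := UJ_le_VJ_of_orth ho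
    have hVV : VJ cs h X (K ∪ K') ≤ VJ cs h X K := VJ_anti Set.subset_union_left
    have hb : Function.Bijective (fun x : UJ cs h X K' × VJ cs h X (K ∪ K') =>
        (⟨x.1 * x.2, mul_mem (hUV x.1.2) (hVV x.2.2)⟩ : VJ cs h X K)) := by
      constructor
      · rintro ⟨a, c⟩ ⟨a', c'⟩ e
        have e1 : (a : Y) * c = a' * c' := congrArg Subtype.val e
        have e2 : (a' : Y)⁻¹ * a = c' * (c : Y)⁻¹ := by
          rw [inv_mul_eq_iff_eq_mul, ← mul_assoc, ← e1, mul_inv_cancel_right]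
        have e3 : (a' : Y)⁻¹ * a = 1 := by
          refine eq_one_of_mem_LJ_of_mem_VJ R (T := T) (J := K ∪ K') ?_ (by rw [e2]; exact mul_mem c'.2 (inv_mem c.2))
          refine LJ_mono Set.subset_union_right (BJ_le_LJ (UJ_le_BJ (J := K') ?_))
          exact mul_mem (inv_mem a'.2) a.2
        have e4 : (a : Y) = a' := (inv_mul_eq_one.1 e3).symm
        have e5 : (c : Y) = c' := by
          rw [e3] at e2
          exact (mul_inv_eq_one.1 e2.symm).symm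
        rw [Prod.mk.injEq]
        exact ⟨Subtype.ext e4, Subtype.ext e5⟩
      · rintro ⟨g, hg⟩
        obtain ⟨b, hb, v, hv, rfl⟩ := mem_VJ_of_orth R ho hg
        exact ⟨(⟨b, hb⟩, ⟨v, hv⟩), rfl⟩
    have e2 : ∑ v : VJ cs h X K, ∑ a : MJ cs h X K, ψ ⟨v * a, mul_mem (hVP v.2) (hMP a.2)⟩ * conj (θ a) =
        ∑ x : UJ cs h X K' × VJ cs h X (K ∪ K'), ∑ a : MJ cs h X K,
          ψ ⟨x.1 * a, UJ_mul_MJ_mem x.1.2 a.2⟩ * conj (θ a) := by
      symm
      refine Fintype.sum_bijective _ hb _ _ ?_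
      rintro ⟨b, v⟩
      refine Finset.sum_congr rfl fun a _ => ?_
      congr 1
      -- `b v a = b a (a⁻¹ v a)`
      have hva : (a : Y)⁻¹ * v * a ∈ VJ cs h X (K ∪ K') := by
        have h1 : (a : Y)⁻¹ ∈ Subgroup.normalizer (VJ cs h X (K ∪ K') : Set Y) :=
          inv_mem (PJ_le_normalizer_VJ R (K ∪ K') (hMP a.2))
        have := (Subgroup.mem_normalizer_iff.1 h1 v).1 v.2
        rwa [inv_inv] at this
      have e3 := H686.CharKit.apply_mul_of_eq' (Core.isIrr_isCharacter hψ) (hV _ hva)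
        (⟨b * a, UJ_mul_MJ_mem b.2 a.2⟩ : PJ cs h T X (K ∪ K'))
      rw [← e3]
      congr 1
      apply Subtype.ext
      simp only [Subgroup.coe_mul]
      group
    let F : UJ cs h X K' → ℂ := fun b => ∑ a : MJ cs h X K, ψ ⟨b * a, UJ_mul_MJ_mem b.2 a.2⟩ * conj (θ a)
    have e4 : ∑ x : UJ cs h X K' × VJ cs h X (K ∪ K'), F x.1 =
        (Fintype.card (VJ cs h X (K ∪ K')) : ℂ) * ∑ b, F b := by
      rw [Fintype.sum_prod_type, Finset.mul_sum]
      refine Finset.sum_congr rfl fun b _ => ?_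
      simp [Finset.sum_const]
    rw [e2]
    change ∑ x : UJ cs h X K' × VJ cs h X (K ∪ K'), F x.1 ≠ 0
    rw [e4]
    refine mul_ne_zero ?_ hne
    exact_mod_cast Fintype.card_ne_zero

end Cfsg.Agent.H246.Dl
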