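import Cfsg.Agent.H53.HC.Mackey

/-!
# Mackey's formula for two subgroups (helper246)

* `exists_tw` : two characters of `P` and `Q` below an irreducible character of `G`: some Mackey term is nonzero;
* `tw_mul` : the term depends on the double coset only;
* `tw_eq_zero_of_sub` : it vanishes if the characters are orthogonal on some `L ≤ P ∩ y Q y⁻¹`.
-/

set_option autoImplicit false

open scoped ComplexConjugate
open Cfsg

namespace Cfsg.Agent.H246.Dl

open Cfsg.Agent.OddOrderCharacters.Clifford Cfsg.Agent.Characters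

universe u

variable {G : Type u} [Group G]

/-- The Mackey term of `x`. -/
noncomputable def tw (P Q : Subgroup G) [Fintype P] (α : P → ℂ) (β : Q → ℂ) (x : G) : ℂ :=
  ∑ t : P, α t * conj (extendByZero Q β (x⁻¹ * t * x))

theorem tw_def (P Q : Subgroup G) [Fintype P] (α : P → ℂ) (β : Q → ℂ) (x : G) :
    tw P Q α β x = ∑ t : P, α t * conj (extendByZero Q β (x⁻¹ * t * x)) := rfl

/-- Two characters with a common constituent are not orthogonal. -/
theorem classInner_ne_zero_of_common [Fintype G] {a b χ : G → ℂ} (ha : IsCharacter G a) (hb : IsCharacter G b)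
    (hχ : IsIrrCharacter G χ) (h1 : classInner a χ ≠ 0) (h2 : classInner b χ ≠ 0) : classInner a b ≠ 0 := by
  classical
  have ha' := isCharacter_sub_irr ha hχ h1
  have hb' := isCharacter_sub_irr hb hχ h2
  have hc := Core.isIrr_isCharacter hχ
  have e1 : a = χ + (a - χ) := by ext x; simp
  have e2 : b = χ + (b - χ) := by ext x; simp
  rw [e1, e2, Core.classInner_add_left, Core.classInner_add_right, Core.classInner_add_right]
  obtain ⟨k, ek⟩ := Core.classInner_isNat hc hb'
  obtain ⟨l, el⟩ := Core.classInner_isNat ha' hc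
  obtain ⟨m, em⟩ := Core.classInner_isNat ha' hb'
  rw [Core.classInner_irr_self hχ, ek, el, em]
  intro h
  have h3 : 1 + k + (l + m) = 0 := by exact_mod_cast h
  omega

theorem exists_tw [Fintype G] (P Q : Subgroup G) [Fintype P] [Fintype Q] {α : P → ℂ} {β : Q → ℂ}
    (hα : IsCharacter P α) (hβ : IsCharacter Q β) {χ : G → ℂ} (hχ : IsIrrCharacter G χ)
    (h1 : classInner α (fun t : P => χ t) ≠ 0) (h2 : classInner β (fun t : Q => χ t) ≠ 0) :
    ∃ x : G, tw P Q α β x ≠ 0 := by
  classical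
  by_contra hno
  push Not at hno
  have hcl := Core.isIrr_isClassFunction hχ
  rw [← classInner_indFun P α χ hcl] at h1
  rw [← classInner_indFun Q β χ hcl] at h2
  refine classInner_ne_zero_of_common (Cfsg.Agent.S0148.result P _ hα) (Cfsg.Agent.S0148.result Q _ hβ) hχ h1 h2 ?_
  rw [classInner_indFun P α _ (isClassFunction_indFun Q β), classInner_apply]
  have h3 : ∑ t : P, α t * conj (indFun Q β t) = (Nat.card Q : ℂ)⁻¹ * ∑ x : G, tw P Q α β x := by
    simp only [tw_def]
    rw [Finset.sum_comm, Finset.mul_sum]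
    refine Finset.sum_congr rfl fun t _ => ?_
    rw [indFun_apply, map_mul, map_sum, map_inv₀, Complex.conj_natCast, ← Finset.mul_sum]
    ring
  rw [h3, Finset.sum_eq_zero fun x _ => hno x, mul_zero, mul_zero]

theorem ext_conj' {Q : Subgroup G} {β : Q → ℂ} (hβ : IsClassFunction Q β) {b : G} (hb : b ∈ Q) (z : G) :
    extendByZero Q β (b⁻¹ * z * b) = extendByZero Q β z := by
  by_cases hz : z ∈ Q
  · rw [ext_apply_mem Q β z hz, ext_apply_mem Q β _ (mul_mem (mul_mem (inv_mem hb) hz) hb)]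
    have := hβ ⟨z, hz⟩ (⟨b, hb⟩ : Q)⁻¹
    rw [inv_inv] at this
    exact this
  · rw [ext_apply_not_mem Q β z hz, ext_apply_not_mem Q β _ (fun h => hz ?_)]
    have := mul_mem (mul_mem hb h) (inv_mem hb)
    simpa [mul_assoc] using this

theorem tw_mul [Finite G] (P Q : Subgroup G) [Fintype P] {α : P → ℂ} {β : Q → ℂ} (hα : IsClassFunction P α)
    (hβ : IsClassFunction Q β) {a b : G} (ha : a ∈ P) (hb : b ∈ Q) (y : G) :
    tw P Q α β (a * y * b) = tw P Q α β y := by
  classical
  rw [tw_def, tw_def]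
  refine Fintype.sum_equiv (MulAut.conj (⟨a, ha⟩ : P)⁻¹).toEquiv _ _ fun t => ?_
  have e1 : α ((MulAut.conj (⟨a, ha⟩ : P)⁻¹).toEquiv t) = α t := hα t (⟨a, ha⟩ : P)⁻¹
  have e2 : ((((MulAut.conj (⟨a, ha⟩ : P)⁻¹).toEquiv t : P)) : G) = a⁻¹ * t * a := by
    simp [MulAut.conj_apply]
  rw [e1, e2]
  congr 2
  have e3 : (a * y * b)⁻¹ * (t : G) * (a * y * b) = b⁻¹ * (y⁻¹ * (a⁻¹ * t * a) * y) * b := by group
  rw [e3, ext_conj' hβ hb]

theorem tw_eq_zero_of_sub [Finite G] (P Q : Subgroup G) [Fintype P] {α : P → ℂ} {β : Q → ℂ}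
    (hα : IsCharacter P α) (hβ : IsCharacter Q β) (x : G) (L : Subgroup G) [Fintype L] (hL : L ≤ P)
    (hL' : ∀ l ∈ L, x⁻¹ * l * x ∈ Q)
    (h : ∑ l : L, α ⟨l, hL l.2⟩ * conj (β ⟨x⁻¹ * l * x, hL' l l.2⟩) = 0) : tw P Q α β x = 0 := by
  classical
  -- the subgroup `D = P ∩ x Q x⁻¹` of `P`
  let c : P →* G := (MulAut.conj x⁻¹).toMonoidHom.comp P.subtype
  have hc : ∀ t : P, c t = x⁻¹ * t * x := fun t => by
    change MulAut.conj x⁻¹ (t : G) = _
    simp [MulAut.conj_apply]
  let D : Subgroup P := Q.comap c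
  have hD : ∀ t : P, t ∈ D ↔ x⁻¹ * t * x ∈ Q := fun t => by rw [← hc]; rfl
  have : Fintype D := Fintype.ofFinite _
  let f1 : D →* P := D.subtype
  let f2 : D →* Q :=
    { toFun := fun d => ⟨c d, d.2⟩
      map_one' := Subtype.ext (by simp)
      map_mul' := fun a b => Subtype.ext (by simp) }
  have hα' : IsCharacter D (α ∘ f1) := Core.isCharacter_comp _ hα
  have hβ' : IsCharacter D (β ∘ f2) := Core.isCharacter_comp _ hβ
  have h0 : classInner (α ∘ f1) (β ∘ f2) = 0 := by
    let f : L →* D :=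
      { toFun := fun l => ⟨⟨l, hL l.2⟩, (hD _).2 (hL' l l.2)⟩
        map_one' := rfl
        map_mul' := fun _ _ => rfl }
    refine H53.HC.classInner_eq_zero_of_comp f hα' hβ' ?_
    rw [Core.classInner_def]
    have h1 : ∀ l : L, ((α ∘ f1) ∘ f) l * conj (((β ∘ f2) ∘ f) l) =
        α ⟨l, hL l.2⟩ * conj (β ⟨x⁻¹ * l * x, hL' l l.2⟩) := by
      intro l
      have e : f2 (f l) = ⟨x⁻¹ * l * x, hL' l l.2⟩ := Subtype.ext (hc ⟨l, hL l.2⟩)
      simp only [Function.comp_apply]
      rw [e]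
      rfl
    rw [Finset.sum_congr rfl fun l _ => h1 l, h, mul_zero]
  rw [classInner_apply] at h0
  have h1 : ∑ d : D, (α ∘ f1) d * conj ((β ∘ f2) d) = 0 := by
    rcases mul_eq_zero.1 h0 with h | h
    · exact absurd h (inv_ne_zero card_ne_zero')
    · exact h
  rw [tw_def, sum_eq_sum_subgroup D]
  · rw [← h1]
    refine Finset.sum_congr rfl fun d _ => ?_
    have h2 : x⁻¹ * (d : P) * x ∈ Q := (hD d).1 d.2
    rw [ext_apply_mem Q β _ h2]
    have e : f2 d = ⟨x⁻¹ * (d : P) * x, h2⟩ := Subtype.ext (hc d)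
    simp only [Function.comp_apply]
    rw [e]
    rfl
  · intro t ht
    rw [hD] at ht
    rw [ext_apply_not_mem Q β _ ht, map_zero, mul_zero]

end Cfsg.Agent.H246.Dl
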